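import Groth.Agent.ParaFLib.Ideal
import Groth.Agent.ParaFLib.Local
import Groth.Agent.ParaFLib.Punctured
import Groth.Agent.TildeOpenLib.Basic
import Groth.Agent.CurveLib.Inv

/-!
# Invertible modules on an open of an affine scheme and functionals
-/

set_option autoImplicit false
set_option linter.style.haveILetI false
set_option backward.isDefEq.respectTransparency false

universe u

open CategoryTheory AlgebraicGeometry TopologicalSpace Opposite
open Groth.Agent.ParaFLib

noncomputable section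

namespace Groth.Agent.ParaFLiftLib

variable {R : CommRingCat.{u}}

/-- Data of a local generator of a module at a prime. -/
def GenData (Q : ModuleCat.{u} R) (p : PrimeSpectrum R) : Prop :=
  ∃ (f : Q) (g : R), g ∉ p.asIdeal ∧ (∀ z : Q, ∃ a : R, g • z = a • f) ∧ ∀ a : R, a • f = 0 → g * a = 0

theorem gen_eltSec' (Q : ModuleCat.{u} R) (g : R) (f : Q) (hgen : ∀ z : Q, ∃ a : R, g • z = a • f)
    (htors : ∀ a : R, a • f = 0 → g * a = 0) : Gen (D g) (eltSec Q (D g) f) := by
  refine gen_of_basicOpen fun h hh => ?_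
  have e : (tilde Q).presheaf.map (homOfLE hh).op (eltSec Q (D g) f) = eltSec Q (D h) f := eltSec_res Q hh f
  rw [e]
  haveI : IsLocalizedModule.Away h (tilde.toOpen Q (D h)).hom :=
    inferInstanceAs (IsLocalizedModule.Away h (tilde.toOpen Q (PrimeSpectrum.basicOpen h)).hom)
  have hgu : IsUnit (algebraMap R Γ(Spec R, D h) g) := isUnit_algebraMap_of_le hh
  have hpow : ∀ m : Submonoid.powers h, IsUnit (algebraMap R Γ(Spec R, D h) m.1) := fun m =>
    IsLocalization.map_units (M := Submonoid.powers h) Γ(Spec R, D h) m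
  constructor
  · intro a b hab
    obtain ⟨⟨c, m⟩, hc⟩ := IsLocalization.surj (Submonoid.powers h) (a - b : Γ(Spec R, D h))
    have h0 : eltSec Q (D h) (c • f) = 0 := by
      rw [eltSec_smul, ← show _ = algebraMap R Γ(Spec R, D h) c from hc, mul_comm, mul_smul, sub_smul]
      rw [show a • eltSec Q (D h) f = b • eltSec Q (D h) f from hab, sub_self, smul_zero]
    obtain ⟨n, hn⟩ := (IsLocalizedModule.eq_zero_iff (Submonoid.powers h) (tilde.toOpen Q (D h)).hom).1 h0
    rw [Submonoid.smul_def, ← mul_smul] at hn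
    have h1 := congrArg (algebraMap R Γ(Spec R, D h)) (htors _ hn)
    rw [map_mul, map_mul, map_zero, hgu.mul_right_eq_zero, (hpow n).mul_right_eq_zero,
      ← show _ = algebraMap R Γ(Spec R, D h) c from hc, (hpow m).mul_left_eq_zero] at h1
    exact sub_eq_zero.1 h1
  · intro v
    obtain ⟨⟨z, m⟩, hz⟩ := IsLocalizedModule.surj (Submonoid.powers h) (tilde.toOpen Q (D h)).hom v
    obtain ⟨a, ha⟩ := hgen z
    obtain ⟨u, hu⟩ := (hpow m).mul hgu
    refine ⟨(↑u⁻¹ : Γ(Spec R, D h)) * algebraMap R _ a, ?_⟩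
    show ((↑u⁻¹ : Γ(Spec R, D h)) * algebraMap R _ a) • eltSec Q (D h) f = v
    rw [mul_smul, ← eltSec_smul, ← ha, eltSec_smul,
      show eltSec Q (D h) z = algebraMap R Γ(Spec R, D h) m.1 • v by
        rw [algebraMap_smul]; exact hz.symm,
      ← mul_smul, ← mul_smul, mul_assoc, mul_comm (algebraMap R Γ(Spec R, D h) g), ← hu, Units.inv_mul, one_smul]

/-- An invertible restriction gives generator data. -/
theorem genData_of_iso (Q : ModuleCat.{u} R) [IsNoetherianRing R] [Module.Finite R Q] (U : (Spec R).Opens)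
    (hQ : PicF.IsInvertible ((tilde Q).restrict U.ι)) (p : PrimeSpectrum R) (hp : p ∈ U) : GenData Q p := by
  obtain ⟨W, hW, ⟨i⟩⟩ := hQ ⟨p, hp⟩
  let j := W.ι ≫ U.ι
  let O := U.ι ''ᵁ W
  have hpO : p ∈ O := ⟨⟨p, hp⟩, hW, rfl⟩
  obtain ⟨s, hs⟩ : ∃ s : Γ(tilde Q, O), Gen O s := by
    have e : (tilde Q).restrict O.ι ≅ Coh.structureModule (O : Scheme.{u}) := by
      let φ : (O : Scheme.{u}) ≅ (W : Scheme.{u}) := IsOpenImmersion.isoOfRangeEq O.ι j (by
        rw [Scheme.Opens.range_ι, ← Scheme.Hom.coe_opensRange, Scheme.Hom.opensRange_comp, Scheme.Opens.opensRange_ι])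
      exact restrictCongr (IsOpenImmersion.isoOfRangeEq_hom_fac _ _ _).symm (tilde Q) ≪≫ restrictComp φ.hom j (tilde Q) ≪≫
        (Scheme.Modules.restrictFunctor φ.hom).mapIso (restrictComp W.ι U.ι (tilde Q) ≪≫ i) ≪≫
        DCohLib.restrictUnit φ.hom
    exact O.ι_image_top ▸ exists_gen_of_iso e
  obtain ⟨h, hph, hhO⟩ := exists_D_le hpO
  have hs' := hs.res hhO
  haveI : IsLocalizedModule.Away h (tilde.toOpen Q (D h)).hom :=
    inferInstanceAs (IsLocalizedModule.Away h (tilde.toOpen Q (PrimeSpectrum.basicOpen h)).hom)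
  have hpow : ∀ n : ℕ, IsUnit (algebraMap R Γ(Spec R, D h) (h ^ n)) := fun n => by
    rw [map_pow]; exact (isUnit_algebraMap_of_le le_rfl).pow n
  obtain ⟨⟨f, m, k, hm⟩, hf⟩ := IsLocalizedModule.surj (Submonoid.powers h) (tilde.toOpen Q (D h)).hom
    ((tilde Q).presheaf.map (homOfLE hhO).op s)
  have hfG : Gen (D h) (eltSec Q (D h) f) := by
    have e : eltSec Q (D h) f = algebraMap R Γ(Spec R, D h) m • (tilde Q).presheaf.map (homOfLE hhO).op s := by
      rw [algebraMap_smul]; exact hf.symm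
    rw [e]
    refine hs'.smul ?_
    rw [← show h ^ k = m from hm]
    exact hpow k
  have hid : ∀ v : Γ(tilde Q, D h), (tilde Q).presheaf.map (homOfLE (le_refl (D h : (Spec R).Opens))).op v = v :=
    fun v => ConcreteCategory.congr_hom ((tilde Q).presheaf.map_id _) v
  have hfG' : Function.Bijective fun r : Γ(Spec R, D h) => r • eltSec Q (D h) f := by
    have := hfG (D h) le_rfl
    simpa only [hid] using this
  have hgen : ∀ z : Q, ∃ (N : ℕ) (a : R), h ^ N • z = a • f := by
    intro z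
    obtain ⟨c, hc⟩ := hfG'.2 (eltSec Q (D h) z)
    obtain ⟨⟨a, d, k', hd⟩, ha⟩ := IsLocalization.surj (Submonoid.powers h) (c : Γ(Spec R, D h))
    have h1 : eltSec Q (D h) (d • z) = eltSec Q (D h) (a • f) := by
      rw [eltSec_smul, eltSec_smul, ← hc, ← mul_smul, mul_comm]
      exact congrArg (· • eltSec Q (D h) f) ha
    obtain ⟨⟨e, n, hn⟩, he⟩ := IsLocalizedModule.exists_of_eq (S := Submonoid.powers h) h1
    refine ⟨n + k', h ^ n * a, ?_⟩
    rw [pow_add, mul_smul, mul_smul, show h ^ k' = d from hd, show h ^ n = e from hn]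
    exact he
  have htor : ∀ a : R, a • f = 0 → ∃ N : ℕ, h ^ N * a = 0 := by
    intro a ha
    have h1 : algebraMap R Γ(Spec R, D h) a = 0 := hfG'.1 (by
      show algebraMap R Γ(Spec R, D h) a • eltSec Q (D h) f = (0 : Γ(Spec R, D h)) • eltSec Q (D h) f
      rw [← eltSec_smul, ha, zero_smul]
      exact (tilde.toOpen Q (D h)).hom.map_zero)
    obtain ⟨⟨e, n, hn⟩, he⟩ := (IsLocalization.map_eq_zero_iff (Submonoid.powers h) Γ(Spec R, D h) a).1 h1
    exact ⟨n, by rw [show h ^ n = e from hn]; exact he⟩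
  classical
  choose N a hN using hgen
  choose K hK using htor
  obtain ⟨S, hS⟩ := (Module.finite_def.1 (inferInstance : Module.Finite R Q) : (⊤ : Submodule R Q).FG)
  obtain ⟨T, hT⟩ := (IsNoetherian.noetherian (LinearMap.ker (LinearMap.toSpanSingleton R Q f)) : Submodule.FG _)
  have hTm : ∀ t ∈ T, t • f = 0 := fun t ht =>
    (hT ▸ Submodule.subset_span ht : t ∈ LinearMap.ker (LinearMap.toSpanSingleton R Q f))
  let n₀ := S.sup N + T.attach.sup fun t => K t.1 (hTm t.1 t.2)
  refine ⟨f, h ^ n₀, fun hc => hph (p.2.mem_of_pow_mem _ hc), fun z => ?_, fun b hb => ?_⟩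
  · have hz : z ∈ Submodule.span R (S : Set Q) := hS ▸ Submodule.mem_top
    induction hz using Submodule.span_induction with
    | mem w hw =>
      obtain ⟨d, hd⟩ := Nat.exists_eq_add_of_le (le_trans (Finset.le_sup (f := N) hw) (Nat.le_add_right _ _) : N w ≤ n₀)
      exact ⟨h ^ d * a w, by rw [hd, add_comm, pow_add, mul_smul, mul_smul, hN]⟩
    | zero => exact ⟨0, by rw [smul_zero, zero_smul]⟩
    | add x y _ _ hx hy =>
      obtain ⟨x', hx'⟩ := hx
      obtain ⟨y', hy'⟩ := hy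
      exact ⟨x' + y', by rw [smul_add, hx', hy', add_smul]⟩
    | smul r x _ hx =>
      obtain ⟨x', hx'⟩ := hx
      exact ⟨r * x', by rw [smul_comm, hx', mul_smul]⟩
  · have hb' : b ∈ Submodule.span R (T : Set R) := hT.ge (show LinearMap.toSpanSingleton R Q f b = 0 from hb)
    clear hb
    induction hb' using Submodule.span_induction with
    | mem w hw =>
      obtain ⟨d, hd⟩ := Nat.exists_eq_add_of_le (le_trans (Finset.le_sup (f := fun t => K t.1 (hTm t.1 t.2))
        (Finset.mem_attach _ ⟨w, hw⟩)) (Nat.le_add_left _ _) : K w (hTm w hw) ≤ n₀)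
      rw [hd, add_comm, pow_add, mul_assoc, hK, mul_zero]
    | zero => rw [mul_zero]
    | add x y _ _ hx hy => rw [mul_add, hx, hy, add_zero]
    | smul r x _ hx => rw [smul_eq_mul, mul_left_comm, hx, mul_zero]

/-- The associated map sends a generator to a generator. -/
theorem bijective_map_app {Q Q' : ModuleCat.{u} R} (ψ : Q ⟶ Q') {W : (Spec R).Opens} {f : Q}
    (hf : Gen W (eltSec Q W f)) (hf' : Gen W (eltSec Q' W (ψ.hom f))) (O : (Spec R).Opens) (hO : O ≤ W) :
    Function.Bijective ((tilde.map ψ).app O) := by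
  have key : ∀ r : Γ(Spec R, O), (tilde.map ψ).app O (r • eltSec Q O f) = r • eltSec Q' O (ψ.hom f) := fun r =>
    (Scheme.Modules.Hom.app_smul (tilde.map ψ) r (eltSec Q O f)).trans
      (congrArg (fun v : Γ(tilde Q', O) => r • v) (eltSec_map Q ψ O f))
  have h1 := hf O hO
  have h2 := hf' O hO
  simp only [eltSec_res] at h1 h2
  have h3 : Function.Bijective (((tilde.map ψ).app O) ∘ fun r : Γ(Spec R, O) => r • eltSec Q O f) := by
    rw [show (((tilde.map ψ).app O) ∘ fun r : Γ(Spec R, O) => r • eltSec Q O f) = fun r => r • eltSec Q' O (ψ.hom f)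
      from funext key]
    exact h2
  exact (Function.Bijective.of_comp_iff _ h1).1 h3

theorem gen_eltSec_one (W : (Spec R).Opens) (a : R) (ha : W ≤ D a) :
    Gen W (eltSec (ModuleCat.of R R) W a) := by
  have h1 := (gen_eltSec' (ModuleCat.of R R) (1 : R) (1 : R) (fun z => ⟨z, by
      show (1 : R) * z = z * 1; rw [one_mul, mul_one]⟩)
    fun b hb => by rw [one_mul]; exact (mul_one b).symm.trans hb).res (show W ≤ D (1 : R) by
      rw [show (D (1 : R) : (Spec R).Opens) = ⊤ from PrimeSpectrum.basicOpen_one]; exact le_top)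
  rw [eltSec_res] at h1
  have h2 := h1.smul (isUnit_algebraMap_of_le (R := R) ha)
  rw [← eltSec_smul] at h2
  rwa [show (a • (1 : R)) = a from mul_one a] at h2

/-- A functional which is surjective on `U` trivialises the module. -/
theorem nonempty_iso_of_functional (Q : ModuleCat.{u} R) (U : (Spec R).Opens) (ψ : Q ⟶ ModuleCat.of R R)
    (hQ : ∀ p ∈ U, GenData Q p) (hψ : ∀ p ∈ U, ∃ z : Q, (ψ.hom z : R) ∉ (p : PrimeSpectrum R).asIdeal) :
    Nonempty ((tilde Q).restrict U.ι ≅ Coh.structureModule (U : Scheme.{u})) := by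
  haveI : IsIso ((Scheme.Modules.restrictFunctor U.ι).map (tilde.map ψ)) := isIso_of_locally_app _ fun y => by
    obtain ⟨f, g, hg, hgen, htor⟩ := hQ y.1 y.2
    obtain ⟨z, hz⟩ := hψ y.1 y.2
    obtain ⟨a, ha⟩ := hgen z
    have hfp : (ψ.hom f : R) ∉ (y.1 : PrimeSpectrum R).asIdeal := fun hc => by
      have h1 : g * (ψ.hom z : R) = a * (ψ.hom f : R) := by
        show g • ψ.hom z = a • ψ.hom f
        rw [← map_smul, ← map_smul, ha]
      exact ((y.1 : PrimeSpectrum R).2.mem_or_mem (h1 ▸ Ideal.mul_mem_left _ a hc)).elim hg hz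
    refine ⟨U.ι ⁻¹ᵁ (D g ⊓ D (ψ.hom f : R)), ⟨hg, hfp⟩, fun O hO => ?_⟩
    refine bijective_map_app ψ ((gen_eltSec' Q g f hgen htor).res inf_le_left |> fun h => by rwa [eltSec_res] at h)
      (gen_eltSec_one _ _ inf_le_right) (U.ι ''ᵁ O) ?_
    exact (U.ι.image_mono hO).trans (U.ι.image_preimage_le _)
  have hG : Gen U (eltSec (ModuleCat.of R R) U (1 : R)) := gen_eltSec_one U 1 (by
    rw [show (D (1 : R) : (Spec R).Opens) = ⊤ from PrimeSpectrum.basicOpen_one]; exact le_top)
  obtain ⟨e⟩ := nonempty_iso_of_gen hG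
  exact ⟨asIso ((Scheme.Modules.restrictFunctor U.ι).map (tilde.map ψ)) ≪≫ e⟩

/-- A trivialisation on `U` gives a functional, when functions on `U` extend. -/
theorem exists_functional_of_iso (Q : ModuleCat.{u} R) (U : (Spec R).Opens)
    (hcl : IsClosed' U.ι (Coh.structureModule (Spec R)))
    (e : (tilde Q).restrict U.ι ≅ Coh.structureModule (U : Scheme.{u})) (hQ : ∀ p ∈ U, GenData Q p) :
    ∃ φ : Q →ₗ[R] R, ∀ p ∈ U, ∃ z, φ z ∉ (p : PrimeSpectrum R).asIdeal := by
  obtain ⟨θ, hθ⟩ := (restrict_bijective U.ι (tilde Q) (Coh.structureModule (Spec R)) hcl).2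
    (e.hom ≫ (DCohLib.restrictUnit U.ι).inv)
  have hθ' : IsIso ((Scheme.Modules.restrictFunctor U.ι).map θ) := by
    rw [show (Scheme.Modules.restrictFunctor U.ι).map θ = e.hom ≫ (DCohLib.restrictUnit U.ι).inv from hθ]
    infer_instance
  let Γt : Γ(Spec R, ⊤) →+* R := (Scheme.ΓSpecIso R).hom.hom
  have hΓ : ∀ r : R, Γt (algebraMap R Γ(Spec R, ⊤) r) = r := fun r => (Scheme.ΓSpecIso R).inv_hom_id_apply r
  have hΓ' : ∀ c : Γ(Spec R, ⊤), algebraMap R Γ(Spec R, ⊤) (Γt c) = c := fun c =>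
    (Scheme.ΓSpecIso R).hom_inv_id_apply c
  let v : ∀ (O : (Spec R).Opens), Q → Γ(Spec R, O) := fun O z => θ.app O (eltSec Q O z)
  have hadd : ∀ O z w, v O (z + w) = v O z + v O w := fun O z w => by
    show θ.app O ((tilde.toOpen Q O).hom (z + w)) = _
    rw [map_add]
    exact map_add (θ.app O).hom _ _
  have hsmul : ∀ O (r : R) z, v O (r • z) = algebraMap R Γ(Spec R, O) r * v O z := fun O r z =>
    (congrArg (θ.app O) (eltSec_smul Q O r z)).trans (Scheme.Modules.Hom.app_smul θ _ _)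
  let φ : Q →ₗ[R] R :=
    { toFun := fun z => Γt (v ⊤ z)
      map_add' := fun z w => by rw [hadd, map_add]
      map_smul' := fun r z => by rw [hsmul, map_mul, hΓ]; rfl }
  refine ⟨φ, fun p hp => ?_⟩
  obtain ⟨f, g, hg, hgen, htor⟩ := hQ p hp
  refine ⟨f, fun hc => ?_⟩
  obtain ⟨h, hph, hle⟩ := exists_D_le (show p ∈ U ⊓ D g from ⟨hp, hg⟩)
  have hbij : Function.Bijective (θ.app (D h)) := by
    have hb : Function.Bijective (((Scheme.Modules.restrictFunctor U.ι).map θ).app (U.ι ⁻¹ᵁ D h)) :=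
      ConcreteCategory.bijective_of_isIso _
    have : Function.Bijective (θ.app (U.ι ''ᵁ (U.ι ⁻¹ᵁ D h))) := hb
    rwa [show U.ι ''ᵁ (U.ι ⁻¹ᵁ D h) = D h by
      rw [Scheme.Hom.image_preimage_eq_opensRange_inf, Scheme.Opens.opensRange_ι,
        inf_eq_right.2 (hle.trans inf_le_left)]] at this
  obtain ⟨s, hs⟩ := hbij.2 (1 : Γ(Spec R, D h))
  obtain ⟨c, hc'⟩ := ((gen_eltSec' Q g f hgen htor) (D h) (hle.trans inf_le_right)).2 s
  rw [eltSec_res] at hc'
  have h1 : c * v (D h) f = 1 := by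
    rw [← hs, ← hc']
    exact (Scheme.Modules.Hom.app_smul θ c _).symm
  have h2 : v (D h) f = algebraMap R Γ(Spec R, D h) (φ f) := by
    rw [← res_algebraMap (le_top : D h ≤ ⊤)]
    show _ = (Spec R).presheaf.map _ (algebraMap R Γ(Spec R, ⊤) (Γt (v ⊤ f)))
    rw [hΓ']
    refine (congrArg (θ.app (D h)) (eltSec_res Q (le_top : D h ≤ ⊤) f).symm).trans ?_
    exact DCohLib.app_natural θ le_top _
  rw [h2] at h1
  have hu : IsUnit (algebraMap R Γ(Spec R, D h) (φ f)) := IsUnit.of_mul_eq_one_right c h1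
  obtain ⟨⟨d, m⟩, hd⟩ := IsLocalization.surj (Submonoid.powers h) (↑hu.unit⁻¹ : Γ(Spec R, D h))
  have h3 : algebraMap R Γ(Spec R, D h) (φ f * d) = algebraMap R Γ(Spec R, D h) m.1 := by
    rw [map_mul, ← hd, ← mul_assoc, IsUnit.mul_val_inv, one_mul]
  obtain ⟨⟨e', n, hn⟩, he⟩ := IsLocalization.exists_of_eq (M := Submonoid.powers h) h3
  obtain ⟨k, hk⟩ := m.2
  refine hph (p.2.mem_of_pow_mem (n + k) ?_)
  rw [pow_add, show h ^ n = e' from hn, show h ^ k = m.1 from hk]
  exact he ▸ Ideal.mul_mem_left _ _ (Ideal.mul_mem_right _ _ hc)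

/-- Trivial Picard group of `U` gives functionals, when functions on `U` extend. -/
theorem exists_functional (Q : ModuleCat.{u} R) (U : (Spec R).Opens)
    (hcl : IsClosed' U.ι (Coh.structureModule (Spec R))) (hpic : ParaF.PicTrivial (U : Scheme.{u}))
    (hQ : ∀ p ∈ U, GenData Q p) : ∃ φ : Q →ₗ[R] R, ∀ p ∈ U, ∃ z, φ z ∉ (p : PrimeSpectrum R).asIdeal := by
  obtain ⟨e⟩ := hpic _ (isInvertible_restrict_of_cover (tilde Q) U fun x hx => by
    obtain ⟨f, g, hg, hgen, htor⟩ := hQ x hx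
    exact ⟨D g, hg, nonempty_iso_of_gen (gen_eltSec' Q g f hgen htor)⟩)
  exact exists_functional_of_iso Q U hcl e hQ

/-- Invertible modules on `U` are trivial if finite modules with generator data have surjective functionals. -/
theorem picTrivial_of_functional [IsNoetherianRing R] (U : (Spec R).Opens)
    (h : ∀ Q : ModuleCat.{u} R, Module.Finite R Q → (∀ p ∈ U, GenData Q p) →
      ∃ φ : Q →ₗ[R] R, ∀ p ∈ U, ∃ z, φ z ∉ (p : PrimeSpectrum R).asIdeal) :
    ParaF.PicTrivial (U : Scheme.{u}) := by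
  intro L hL
  haveI : IsLocallyNoetherian (Spec R) := inferInstance
  have hc : IsCompact (U : Set (Spec R)) := (TopologicalSpace.NoetherianSpace.isCompact _)
  obtain ⟨N, hN, ⟨e⟩⟩ := TildeOpenLib.exists_tilde_finite U hc L (CurveLib.isCoh_of_isInvertible hL)
  have hinv : PicF.IsInvertible ((tilde N).restrict U.ι) := isInvertible_of_iso e hL
  haveI := hN
  have hdata : ∀ p ∈ U, GenData N p := fun p hp => genData_of_iso N U hinv p hp
  obtain ⟨φ, hφ⟩ := h N hN hdata
  obtain ⟨e'⟩ := nonempty_iso_of_functional N U (ModuleCat.ofHom φ) hdata hφ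
  exact ⟨e ≪≫ e'⟩

end Groth.Agent.ParaFLiftLib
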