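import Groth.Agent.ParaFLiftLib.Alg
import Groth.Agent.ParaFLiftLib.Tilde

/-!
# Parafactoriality along a normally flat ideal
-/

set_option autoImplicit false
set_option linter.style.haveILetI false

universe u

open IsLocalRing CategoryTheory AlgebraicGeometry

namespace Groth.Agent.ParaFLiftLib

variable {A : Type u} [CommRing A]

/-- The third element of a regular triple. -/
def RegThird (E : Type u) [AddCommGroup E] [Module A E] (x y z : A) : Prop :=
  ∀ a b c : E, z • a = x • b + y • c → ∃ b' c' : E, a = x • b' + y • c'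

theorem RegThird.ext {F E Q : Type u} [AddCommGroup F] [Module A F] [AddCommGroup E] [Module A E]
    [AddCommGroup Q] [Module A Q] {x y z : A} (i : F →ₗ[A] E) (q : E →ₗ[A] Q) (hi : Function.Injective i)
    (hq : Function.Surjective q) (hiq : Function.Exact i q) (hQ : RegPair Q x y) (hF : RegThird F x y z)
    (hQ3 : RegThird Q x y z) : RegThird E x y z := by
  intro a b c h
  obtain ⟨b₁, c₁, h₁⟩ := hQ3 (q a) (q b) (q c) (by rw [← map_smul, h, map_add, map_smul, map_smul])
  obtain ⟨b₁, rfl⟩ := hq b₁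
  obtain ⟨c₁, rfl⟩ := hq c₁
  obtain ⟨f, hf⟩ := (hiq (a - (x • b₁ + y • c₁))).1 (by rw [map_sub, map_add, map_smul, map_smul, h₁, sub_self])
  have h2 : z • i f = x • (b - z • b₁) + y • (c - z • c₁) := by rw [hf, smul_sub, h]; module
  have h3 : y • q (c - z • c₁) = x • -(q (b - z • b₁)) := by
    have := congrArg q h2
    rw [map_smul, hiq.apply_apply_eq_zero, smul_zero, map_add, map_smul, map_smul, eq_comm, ← eq_neg_iff_add_eq_zero] at this
    rw [smul_neg, this, neg_neg]
  obtain ⟨t, ht⟩ := hQ.2 _ _ h3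
  obtain ⟨t, rfl⟩ := hq t
  obtain ⟨c', hc'⟩ := (hiq (c - z • c₁ - x • t)).1 (by rw [map_sub, map_smul, ht, sub_self])
  obtain ⟨b', hb'⟩ := (hiq (b - z • b₁ + y • t)).1 (hQ.1 _ (by
    rw [map_add, smul_add, map_smul, smul_comm x y, ← ht, h3, smul_neg, add_neg_cancel]))
  obtain ⟨b'', c'', hF'⟩ := hF f b' c' (hi (by
    rw [map_smul, map_add, map_smul, map_smul, hb', hc', h2]; module))
  refine ⟨b₁ + i b'', c₁ + i c'', ?_⟩
  rw [hF', map_add, map_smul, map_smul] at hf
  rw [smul_add, smul_add, eq_add_of_sub_eq hf.symm]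
  abel

theorem RegThird.pi {J : Ideal A} {x y z : A} (h : RegThird (A ⧸ J) x y z) (ι : Type u) :
    RegThird (ι → A ⧸ J) x y z := fun a b c he => by
  choose b' c' hbc using fun i => h (a i) (b i) (c i) (congrFun he i)
  exact ⟨b', c', funext hbc⟩

variable [IsNoetherianRing A] [IsLocalRing A] (J : Ideal A)
  (hgr : ∀ n : ℕ, Module.Free (A ⧸ J) (↥(J ^ n) ⧸ (J • (⊤ : Submodule A ↥(J ^ n)))))

include hgr in
theorem regThird_pow {x y z : A} (h : RegPair (A ⧸ J) x y) (h3 : RegThird (A ⧸ J) x y z) :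
    ∀ n, RegThird (A ⧸ J ^ n) x y z
  | 0 => fun a b c _ => by
    haveI : Subsingleton (A ⧸ J ^ 0) := by rw [pow_zero, Ideal.one_eq_top]; exact Ideal.Quotient.subsingleton_iff.2 rfl
    exact ⟨0, 0, Subsingleton.elim _ _⟩
  | n + 1 => by
    obtain ⟨ι, _, i, hi, hex⟩ := exists_graded J hgr n
    exact RegThird.ext i (red J n) hi (Submodule.factor_surjective (Ideal.pow_le_pow_right (Nat.le_succ _))) hex
      (regPair_pow J hgr h n) (h3.pi ι) (regThird_pow h h3 n)

omit hgr in
theorem mem_of_forall_mem_sup_pow (hJ : J ≠ ⊤) (I : Ideal A) {e : A} (h : ∀ n, e ∈ I ⊔ J ^ n) : e ∈ I := by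
  have h0 : (Submodule.Quotient.mk e : A ⧸ I) ∈ (⨅ n : ℕ, J ^ n • (⊤ : Submodule A (A ⧸ I))) := by
    refine Submodule.mem_iInf _ |>.2 fun n => ?_
    obtain ⟨a, ha, b, hb, rfl⟩ := Submodule.mem_sup.1 (h n)
    rw [Submodule.Quotient.mk_add, (Submodule.Quotient.mk_eq_zero _).2 ha, zero_add,
      show (Submodule.Quotient.mk b : A ⧸ I) = b • Submodule.Quotient.mk 1 by
        rw [← Submodule.Quotient.mk_smul, smul_eq_mul, mul_one]]
    exact Submodule.smul_mem_smul hb Submodule.mem_top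
  rw [Ideal.iInf_pow_smul_eq_bot_of_isLocalRing J hJ, Submodule.mem_bot, Submodule.Quotient.mk_eq_zero] at h0
  exact h0

include hgr in
theorem three_le_depth (hJ : J ≠ ⊤) [IsLocalRing (A ⧸ J)] (hd : (3 : ℕ∞) ≤ LocCoh.depth (A ⧸ J) (A ⧸ J)) :
    (3 : ℕ∞) ≤ LocCoh.depth A A := by
  obtain ⟨x, y, z, hx, hy, hz, hr, hr3⟩ := triples_of_depth J hJ hd 1
  rw [pow_one] at hx hy hz
  have hq : ∀ n (r v : A), r • Ideal.Quotient.mk (J ^ n) v = Ideal.Quotient.mk (J ^ n) (r * v) := fun n r v => smul_mk r v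
  refine (Depth.le_idealDepth_iff (M := A) (fun h => (maximalIdeal.isMaximal A).ne_top ?_) 3).2
    ⟨[x, y, z], rfl, fun r hr' => by
      simp only [List.mem_cons, List.not_mem_nil, or_false] at hr'
      rcases hr' with rfl | rfl | rfl <;> assumption, ?_⟩
  · rwa [smul_eq_mul, Ideal.mul_top] at h
  have conv : ∀ (l : List A) (v : A),
      v ∈ Ideal.ofList l • (⊤ : Submodule A A) ↔ v ∈ Ideal.ofList l := by
    intro l v; rw [smul_eq_mul, Ideal.mul_top]
  have reg : ∀ (l : List A) (r : A), (∀ v, r * v ∈ Ideal.ofList l → v ∈ Ideal.ofList l) →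
      IsSMulRegular (A ⧸ (Ideal.ofList l • (⊤ : Submodule A A))) r := by
    intro l r h
    rw [isSMulRegular_iff_right_eq_zero_of_smul]
    intro q hq'
    obtain ⟨v, rfl⟩ := Submodule.Quotient.mk_surjective _ q
    rw [← Submodule.Quotient.mk_smul, Submodule.Quotient.mk_eq_zero, conv] at hq'
    rw [Submodule.Quotient.mk_eq_zero, conv]
    exact h v hq'
  refine ⟨fun i hi => ?_⟩
  match i, hi with
  | 0, _ =>
    refine reg _ x fun v hv => mem_of_forall_mem_sup_pow J hJ _ fun n => Ideal.mem_sup_right ?_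
    rw [List.take_zero, Ideal.ofList_nil, Submodule.mem_bot] at hv
    rw [← Ideal.Quotient.eq_zero_iff_mem]
    exact (regPair_pow J hgr hr n).1 _ (by rw [hq, hv, map_zero])
  | 1, _ =>
    refine reg _ y fun v hv => mem_of_forall_mem_sup_pow J hJ _ fun n => ?_
    simp only [List.take_succ_cons, List.take_zero, Ideal.ofList_singleton] at hv ⊢
    obtain ⟨w, hw⟩ := Ideal.mem_span_singleton'.1 hv
    obtain ⟨c, hc⟩ := (regPair_pow J hgr hr n).2 (Ideal.Quotient.mk _ v) (Ideal.Quotient.mk _ w) (by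
      rw [hq, hq, ← hw, mul_comm x w])
    obtain ⟨c, rfl⟩ := Ideal.Quotient.mk_surjective c
    rw [hq, Ideal.Quotient.eq] at hc
    rw [show v = x * c + (v - x * c) by ring]
    exact Submodule.add_mem_sup (Ideal.mul_mem_right _ _ (Ideal.mem_span_singleton_self x)) hc
  | 2, _ =>
    refine reg _ z fun v hv => mem_of_forall_mem_sup_pow J hJ _ fun n => ?_
    have hof : Ideal.ofList [x, y] = Ideal.span {x, y} := by
      rw [Ideal.ofList_cons, Ideal.ofList_singleton, ← Ideal.span_insert]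
    rw [show List.take 2 [x, y, z] = [x, y] from rfl, hof] at hv ⊢
    obtain ⟨b, c, hbc⟩ := Ideal.mem_span_pair.1 hv
    obtain ⟨b', c', h'⟩ := regThird_pow J hgr hr hr3 n (Ideal.Quotient.mk _ v) (Ideal.Quotient.mk _ b)
      (Ideal.Quotient.mk _ c) (by rw [hq, hq, hq, ← map_add, show z * v = x * b + y * c from hbc.symm.trans (by ring)])
    obtain ⟨b', rfl⟩ := Ideal.Quotient.mk_surjective b'
    obtain ⟨c', rfl⟩ := Ideal.Quotient.mk_surjective c'
    rw [hq, hq, ← map_add, Ideal.Quotient.eq] at h'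
    rw [show v = (x * b' + y * c') + (v - (x * b' + y * c')) by ring]
    exact Submodule.add_mem_sup (Ideal.mem_span_pair.2 ⟨b', c', by ring⟩) h'

theorem mem_punctured_iff {B : Type u} [CommRing B] [IsLocalRing B] (p : PrimeSpectrum B) :
    p ∈ FEt.puncturedSpec B ↔ p.asIdeal ≠ maximalIdeal B :=
  ⟨fun h e => h (PrimeSpectrum.ext e), fun h e => h (congrArg PrimeSpectrum.asIdeal e)⟩

omit hgr in
/-- Trivial Picard group of the punctured spectrum of the quotient gives good functionals. -/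
theorem exists_good [IsLocalRing (A ⧸ J)] (hd : (2 : ℕ∞) ≤ LocCoh.depth (A ⧸ J) (A ⧸ J))
    (h0 : ParaF.PicTrivial (FEt.puncturedSpec (A ⧸ J) : Scheme.{u}))
    (N : Type u) [AddCommGroup N] [Module A N] (hN : LI (A := A) N) :
    ∃ φ : N →ₗ[A] A ⧸ J, Good J φ := by
  let R : CommRingCat.{u} := CommRingCat.of (A ⧸ J)
  let N₀ : ModuleCat.{u} R := ModuleCat.of (A ⧸ J) (N ⧸ (J • (⊤ : Submodule A N)))
  haveI : IsNoetherianRing R := inferInstanceAs (IsNoetherianRing (A ⧸ J))
  have hcomap : ∀ q : PrimeSpectrum (A ⧸ J), q.asIdeal ≠ maximalIdeal (A ⧸ J) →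
      q.asIdeal.comap (Ideal.Quotient.mk J) ≠ maximalIdeal A := by
    intro q hq e
    refine hq (eq_maximalIdeal ?_)
    have : (q.asIdeal.comap (Ideal.Quotient.mk J)).map (Ideal.Quotient.mk J) = q.asIdeal :=
      Ideal.map_comap_of_surjective _ Ideal.Quotient.mk_surjective _
    rw [← this, e]
    refine (Ideal.map_eq_top_or_isMaximal_of_surjective _ Ideal.Quotient.mk_surjective
      (maximalIdeal.isMaximal A)).resolve_left ?_
    rw [← e, this]
    exact q.2.ne_top
  obtain ⟨φ₀, hφ₀⟩ := exists_functional (R := R) N₀ (FEt.puncturedSpec (A ⧸ J))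
    (ParaFLib.isClosed'_of_depth (X := Spec R) (FEt.puncturedSpec (A ⧸ J))
      (fun x hx => ParaFLib.two_le_depth_stalk_closedPoint (A ⧸ J) hd x (not_not.1 fun h => hx h))
      ParaFLib.isInvertible_structureModule) h0 fun q hq => by
    obtain ⟨f, g, hg, hgen, htor⟩ := hN ⟨q.asIdeal.comap (Ideal.Quotient.mk J), q.2.comap _⟩
      (hcomap q ((mem_punctured_iff q).1 hq))
    refine ⟨Submodule.Quotient.mk f, Ideal.Quotient.mk J (g * g), ?_, fun z => ?_, fun a ha => ?_⟩
    · rw [map_mul]; exact fun h => (q.2.mem_or_mem h).elim hg hg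
    · obtain ⟨z, rfl⟩ := Submodule.Quotient.mk_surjective _ z
      obtain ⟨a, ha⟩ := hgen z
      refine ⟨Ideal.Quotient.mk J (g * a), ?_⟩
      show (Submodule.Quotient.mk ((g * g) • z) : N ⧸ (J • (⊤ : Submodule A N))) = Submodule.Quotient.mk ((g * a) • f)
      rw [mul_smul, ha, mul_smul]
    · obtain ⟨a, rfl⟩ := Ideal.Quotient.mk_surjective a
      have ha' : a • f ∈ J • (⊤ : Submodule A N) := (Submodule.Quotient.mk_eq_zero _).1 ha
      have key : ∀ v ∈ J • (⊤ : Submodule A N), ∃ j ∈ J, g • v = j • f := by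
        intro v hv
        induction hv using Submodule.smul_induction_on' with
        | smul r hr n _ =>
          obtain ⟨c, hc⟩ := hgen n
          exact ⟨r * c, Ideal.mul_mem_right _ _ hr, by rw [smul_comm, hc, mul_smul]⟩
        | add v _ w _ hv hw =>
          obtain ⟨j, hj, e⟩ := hv
          obtain ⟨k, hk, e'⟩ := hw
          exact ⟨j + k, add_mem hj hk, by rw [smul_add, e, e', add_smul]⟩
      obtain ⟨j, hj, e⟩ := key _ ha'
      have h1 := htor (g * a - j) (by rw [sub_smul, mul_smul, e, sub_self])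
      show Ideal.Quotient.mk J (g * g * a) = 0
      rw [show g * g * a = g * (g * a - j) + g * j by ring, h1, zero_add, Ideal.Quotient.eq_zero_iff_mem]
      exact Ideal.mul_mem_left _ _ hj
  let φ : N →ₗ[A] A ⧸ J :=
    { toFun := fun z => φ₀ (Submodule.Quotient.mk z)
      map_add' := fun z w => φ₀.map_add (Submodule.Quotient.mk z) (Submodule.Quotient.mk w)
      map_smul' := fun r z => φ₀.map_smul (Ideal.Quotient.mk J r) (Submodule.Quotient.mk z) }
  refine ⟨φ, fun p hp hJp => ?_⟩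
  haveI : (p.asIdeal.map (Ideal.Quotient.mk J)).IsPrime :=
    Ideal.map_isPrime_of_surjective Ideal.Quotient.mk_surjective (by rw [Ideal.mk_ker]; exact hJp)
  have hc : (p.asIdeal.map (Ideal.Quotient.mk J)).comap (Ideal.Quotient.mk J) = p.asIdeal := by
    rw [Ideal.comap_map_of_surjective _ Ideal.Quotient.mk_surjective, ← RingHom.ker_eq_comap_bot, Ideal.mk_ker,
      sup_eq_left.2 hJp]
  obtain ⟨z, hz⟩ := hφ₀ ⟨p.asIdeal.map (Ideal.Quotient.mk J), inferInstance⟩ ((mem_punctured_iff _).2 fun e => hp (by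
    rw [← hc, show p.asIdeal.map (Ideal.Quotient.mk J) = maximalIdeal (A ⧸ J) from e]
    haveI := IsLocalHom.of_surjective (Ideal.Quotient.mk J) Ideal.Quotient.mk_surjective
    exact maximalIdeal_comap _))
  obtain ⟨z, rfl⟩ := Submodule.Quotient.mk_surjective _ z
  obtain ⟨a, ha⟩ := Ideal.Quotient.mk_surjective (φ z)
  exact ⟨z, a, ha.symm, fun h => hz (ha ▸ Ideal.mem_map_of_mem _ h)⟩

include hgr in
/-- **Parafactoriality along a normally flat ideal.** -/
theorem picTrivial_of_normallyFlat (hJ : J ≠ ⊤) [IsLocalRing (A ⧸ J)]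
    (hd : (3 : ℕ∞) ≤ LocCoh.depth (A ⧸ J) (A ⧸ J))
    (h0 : ParaF.PicTrivial (FEt.puncturedSpec (A ⧸ J) : Scheme.{u})) :
    ParaF.PicTrivial (FEt.puncturedSpec A : Scheme.{u}) := by
  haveI : IsNoetherianRing (CommRingCat.of A) := inferInstanceAs (IsNoetherianRing A)
  refine picTrivial_of_functional (R := CommRingCat.of A) (FEt.puncturedSpec A) fun Q hQ hdata => ?_
  haveI := hQ
  obtain ⟨ψ, hψ⟩ := exists_good_functional (A := A) (M := Q) hJ hgr (triples_of_depth J hJ hd)
    (fun N _ _ _ hN => exists_good J (le_trans (by norm_num) hd) h0 N hN)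
    (fun p hp => hdata p ((mem_punctured_iff p).2 hp))
  exact ⟨ψ, fun p hp => hψ p ((mem_punctured_iff p).1 hp)⟩

end Groth.Agent.ParaFLiftLib
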