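import Mathlib
import Groth.Agent.Depth.Basic

/-!
# Lifting trivialisations of modules invertible off the closed point along a normally flat ideal
-/

set_option autoImplicit false
set_option linter.style.haveILetI false

universe u

open IsLocalRing

namespace Groth.Agent.ParaFLiftLib

variable {A : Type u} [CommRing A] [IsNoetherianRing A] [IsLocalRing A]

/-- Free of rank one at all primes different from the maximal ideal, with explicit data. -/
def LI (M : Type u) [AddCommGroup M] [Module A M] : Prop :=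
  ∀ p : PrimeSpectrum A, p.asIdeal ≠ maximalIdeal A →
    ∃ (f : M) (g : A), g ∉ p.asIdeal ∧ (∀ z : M, ∃ a : A, g • z = a • f) ∧ ∀ a : A, a • f = 0 → g * a = 0

/-- The image is nowhere in a prime off the closed point. -/
def Good (J : Ideal A) {M : Type u} [AddCommGroup M] [Module A M] (φ : M →ₗ[A] A ⧸ J) : Prop :=
  ∀ p : PrimeSpectrum A, p.asIdeal ≠ maximalIdeal A → J ≤ p.asIdeal →
    ∃ (z : M) (a : A), φ z = Ideal.Quotient.mk J a ∧ a ∉ p.asIdeal

omit [IsNoetherianRing A] [IsLocalRing A] in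
theorem smul_mk {J : Ideal A} (a b : A) :
    a • Ideal.Quotient.mk J b = Ideal.Quotient.mk J (a * b) := rfl

theorem notMem_mul {p : PrimeSpectrum A} {a b : A} (ha : a ∉ p.asIdeal) (hb : b ∉ p.asIdeal) :
    a * b ∉ p.asIdeal := fun h => (p.2.mem_or_mem h).elim ha hb

theorem exists_pow_le (I : Ideal A) (h : ∀ p : PrimeSpectrum A, p.asIdeal ≠ maximalIdeal A → ¬ I ≤ p.asIdeal) :
    ∃ N : ℕ, maximalIdeal A ^ N ≤ I := by
  refine Ideal.exists_pow_le_of_le_radical_of_fg ?_ (IsNoetherian.noetherian _)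
  rw [Ideal.radical_eq_sInf]
  refine le_sInf ?_
  rintro q ⟨hle, hq⟩
  by_contra hne
  exact h ⟨q, hq⟩ (fun e => hne (le_of_eq (Eq.symm e))) hle

/-- A regular pair. -/
def RegPair (E : Type u) [AddCommGroup E] [Module A E] (x y : A) : Prop :=
  (∀ e : E, x • e = 0 → e = 0) ∧ ∀ e e' : E, y • e = x • e' → ∃ c : E, e = x • c

omit [IsNoetherianRing A] [IsLocalRing A] in
theorem RegPair.ext {F E Q : Type u} [AddCommGroup F] [Module A F] [AddCommGroup E] [Module A E]
    [AddCommGroup Q] [Module A Q] {x y : A} (i : F →ₗ[A] E) (q : E →ₗ[A] Q) (hi : Function.Injective i)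
    (hq : Function.Surjective q) (hiq : Function.Exact i q) (hF : RegPair F x y) (hQ : RegPair Q x y) :
    RegPair E x y := by
  refine ⟨fun e he => ?_, fun e e' he => ?_⟩
  · obtain ⟨f, rfl⟩ := (hiq e).1 (hQ.1 _ (by rw [← map_smul, he, map_zero]))
    rw [hF.1 f (hi (by rw [map_smul, he, map_zero])), map_zero]
  · obtain ⟨cb, hcb⟩ := hQ.2 (q e) (q e') (by rw [← map_smul, ← map_smul, he])
    obtain ⟨c, rfl⟩ := hq cb
    obtain ⟨f, hf⟩ := (hiq (e - x • c)).1 (by rw [map_sub, map_smul, hcb, sub_self])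
    have h2 : y • i f = x • (e' - y • c) := by
      rw [hf, smul_sub, smul_sub, he, smul_comm y x]
    obtain ⟨f', hf'⟩ := (hiq (e' - y • c)).1 (hQ.1 _ (by
      rw [← map_smul, ← h2, map_smul, hiq.apply_apply_eq_zero, smul_zero]))
    obtain ⟨d, rfl⟩ := hF.2 f f' (hi (by rw [map_smul, map_smul, hf', h2]))
    refine ⟨c + i d, ?_⟩
    rw [map_smul] at hf
    rw [smul_add, hf, add_sub_cancel]

omit [IsNoetherianRing A] [IsLocalRing A] in
theorem RegPair.pi {J : Ideal A} {x y : A} (h : RegPair (A ⧸ J) x y) (ι : Type u) : RegPair (ι → A ⧸ J) x y :=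
  ⟨fun e he => funext fun i => h.1 _ (congrFun he i), fun e e' he => by
    choose c hc using fun i => h.2 (e i) (e' i) (congrFun he i)
    exact ⟨c, funext hc⟩⟩

variable (J : Ideal A)

/-- Regular triples in every power of the maximal ideal. -/
def Triples : Prop :=
  ∀ N : ℕ, ∃ x y z : A, x ∈ maximalIdeal A ^ N ∧ y ∈ maximalIdeal A ^ N ∧ z ∈ maximalIdeal A ^ N ∧
    RegPair (A ⧸ J) x y ∧
    ∀ a b c : A ⧸ J, z • a = x • b + y • c → ∃ b' c' : A ⧸ J, a = x • b' + y • c'

theorem triples_of_depth (hJ : J ≠ ⊤) [IsLocalRing (A ⧸ J)]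
    (hd : (3 : ℕ∞) ≤ LocCoh.depth (A ⧸ J) (A ⧸ J)) : Triples J := by
  intro N
  haveI : Nontrivial (A ⧸ J) := Ideal.Quotient.nontrivial_iff.2 hJ
  let R := A ⧸ J
  let m := maximalIdeal R
  have hne : ∀ I : Ideal R, I ≤ m → I • (⊤ : Submodule R R) ≠ ⊤ := fun I hI h => by
    rw [smul_eq_mul, Ideal.mul_top] at h
    exact (maximalIdeal.isMaximal R).ne_top (top_le_iff.1 (h ▸ hI))
  rcases Nat.eq_zero_or_pos N with hN | hN
  · obtain ⟨rs, hlen, hmem, hw⟩ := (Depth.le_idealDepth_iff (hne m le_rfl) 3).1 hd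
    obtain ⟨N', rfl⟩ : ∃ N', N = N' := ⟨N, rfl⟩
    subst hN
    match rs, hlen with
    | [a, b, c], _ =>
      obtain ⟨x, rfl⟩ := Ideal.Quotient.mk_surjective a
      obtain ⟨y, rfl⟩ := Ideal.Quotient.mk_surjective b
      obtain ⟨z, rfl⟩ := Ideal.Quotient.mk_surjective c
      exact ⟨x, y, z, by simp, by simp, by simp, regs hw⟩
  · have hle : m ^ N ≤ m := Ideal.pow_le_self hN.ne'
    obtain ⟨rs, hrs⟩ := Depth.exists_isMaxSeq (M := R) (hne _ hle)
    obtain ⟨hw, hmem, e, he, he'⟩ := hrs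
    have hex : ∃ k, ∀ r ∈ m ^ k, r • e ∈ Ideal.ofList rs • (⊤ : Submodule R R) := ⟨N, he'⟩
    classical
    obtain ⟨k, hk⟩ : ∃ k, Nat.find hex = k + 1 := by
      rcases h : Nat.find hex with _ | k
      · exfalso
        have := Nat.find_spec hex 1 (by rw [h]; simp)
        rw [one_smul] at this
        exact he this
      · exact ⟨k, rfl⟩
    obtain ⟨r, hr, hre⟩ : ∃ r ∈ m ^ k, r • e ∉ Ideal.ofList rs • (⊤ : Submodule R R) := by
      have := Nat.find_min hex (m := k) (by omega)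
      push Not at this
      exact this
    have hmax : Depth.IsMaxSeq m R rs := ⟨hw, fun r hr => hle (hmem r hr), r • e, hre, fun s hs => by
      rw [← mul_smul]
      refine Nat.find_spec hex (s * r) ?_
      rw [hk, pow_succ']
      exact Ideal.mul_mem_mul hs hr⟩
    have hlen : (3 : ℕ∞) ≤ rs.length := Depth.idealDepth_eq_length (hne m le_rfl) hmax ▸ hd
    have hlen' : 3 ≤ rs.length := by exact_mod_cast hlen
    match rs, hlen' with
    | a :: b :: c :: t, _ =>
      have hlift : ∀ r ∈ m ^ N, ∃ x ∈ maximalIdeal A ^ N, Ideal.Quotient.mk J x = r := by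
        intro r hr
        have hm : m = (maximalIdeal A).map (Ideal.Quotient.mk J) := by
          rw [← Ideal.map_comap_of_surjective _ Ideal.Quotient.mk_surjective m]
          congr 1
          haveI := IsLocalHom.of_surjective (Ideal.Quotient.mk J) Ideal.Quotient.mk_surjective
          exact maximalIdeal_comap _
        rw [hm, ← Ideal.map_pow, Ideal.mem_map_iff_of_surjective _ Ideal.Quotient.mk_surjective] at hr
        exact hr
      obtain ⟨x, hx, rfl⟩ := hlift a (hmem _ (by simp))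
      obtain ⟨y, hy, rfl⟩ := hlift b (hmem _ (by simp))
      obtain ⟨z, hz, rfl⟩ := hlift c (hmem _ (by simp))
      refine ⟨x, y, z, hx, hy, hz, regs (rs := [Ideal.Quotient.mk J x, Ideal.Quotient.mk J y, Ideal.Quotient.mk J z]) ?_⟩
      exact ((RingTheory.Sequence.isWeaklyRegular_append_iff R [Ideal.Quotient.mk J x, Ideal.Quotient.mk J y,
        Ideal.Quotient.mk J z] t).1 hw).1
where
  regs {rs : List (A ⧸ J)} {x y z : A}
      (hw : RingTheory.Sequence.IsWeaklyRegular (A ⧸ J) rs)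
      (hrs : rs = [Ideal.Quotient.mk J x, Ideal.Quotient.mk J y, Ideal.Quotient.mk J z] := by rfl) :
      RegPair (A ⧸ J) x y ∧ ∀ a b c : A ⧸ J, z • a = x • b + y • c → ∃ b' c' : A ⧸ J, a = x • b' + y • c' := by
    subst hrs
    have hs : ∀ (u : A) (v : A ⧸ J), u • v = Ideal.Quotient.mk J u * v := fun u v => Algebra.smul_def u v
    have h := hw.regular_mod_prev
    have h0 := h 0 (by simp)
    have h1 := h 1 (by simp)
    have h2 := h 2 (by simp)
    simp only [List.take_zero, List.take_succ_cons, List.getElem_cons_zero, List.getElem_cons_succ] at h0 h1 h2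
    have conv : ∀ (l : List (A ⧸ J)) (v : A ⧸ J), v ∈ Ideal.ofList l • (⊤ : Submodule (A ⧸ J) (A ⧸ J)) ↔ v ∈ Ideal.ofList l := by
      intro l v; rw [smul_eq_mul, Ideal.mul_top]
    have reg : ∀ (l : List (A ⧸ J)) (r v : A ⧸ J),
        IsSMulRegular ((A ⧸ J) ⧸ (Ideal.ofList l • (⊤ : Submodule (A ⧸ J) (A ⧸ J)))) r →
        r * v ∈ Ideal.ofList l → v ∈ Ideal.ofList l := by
      intro l r v hr hv
      rw [← conv, ← Submodule.Quotient.mk_eq_zero]
      apply hr
      show r • Submodule.Quotient.mk v = r • 0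
      rw [← Submodule.Quotient.mk_smul, smul_zero, Submodule.Quotient.mk_eq_zero, conv]
      exact hv
    refine ⟨⟨fun e he => ?_, fun e e' he => ?_⟩, fun a b c he => ?_⟩
    · have := reg [] _ e h0 (by rw [← hs, he]; exact zero_mem _)
      simpa [Ideal.ofList_nil] using this
    · have := reg _ _ e h1 (by rw [← hs, he, hs, Ideal.ofList_singleton]; exact Ideal.mul_mem_right _ _ (Ideal.mem_span_singleton_self _))
      rw [Ideal.ofList_singleton, Ideal.mem_span_singleton] at this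
      obtain ⟨c, hc⟩ := this
      exact ⟨c, by rw [hc, hs]⟩
    · have hof : Ideal.ofList [Ideal.Quotient.mk J x, Ideal.Quotient.mk J y] =
          Ideal.span {Ideal.Quotient.mk J x, Ideal.Quotient.mk J y} := by
        rw [Ideal.ofList_cons, Ideal.ofList_singleton, ← Ideal.span_insert]
      have := reg _ _ a h2 (by
        rw [← hs, he, hs, hs, hof, Ideal.mem_span_pair]
        exact ⟨b, c, by ring⟩)
      rw [hof, Ideal.mem_span_pair] at this
      obtain ⟨b', c', h'⟩ := this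
      exact ⟨b', c', by rw [← h', hs, hs]; ring⟩

variable {J} {M : Type u} [AddCommGroup M] [Module A M]

theorem exists_pow_range {φ : M →ₗ[A] A ⧸ J} (hφ : Good J φ) :
    ∃ N : ℕ, ∀ a ∈ maximalIdeal A ^ N, ∃ z, φ z = Ideal.Quotient.mk J a := by
  obtain ⟨N, hN⟩ := exists_pow_le (Submodule.comap (Algebra.linearMap A (A ⧸ J)) (LinearMap.range φ))
    fun p hp hle => by
      by_cases hJ : J ≤ p.asIdeal
      · obtain ⟨z, a, hza, ha⟩ := hφ p hp hJ
        exact ha (hle ⟨z, hza⟩)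
      · obtain ⟨j, hj, hjp⟩ := SetLike.not_le_iff_exists.1 hJ
        exact hjp (hle ⟨0, by rw [map_zero]; exact (Ideal.Quotient.eq_zero_iff_mem.2 hj).symm⟩)
  exact ⟨N, fun a ha => hN ha⟩

theorem mult_eq_zero (hT : Triples J) {φ : M →ₗ[A] A ⧸ J} (hφ : Good J φ) (a : A ⧸ J)
    (h : ∀ z, φ z * a = 0) : a = 0 := by
  obtain ⟨N, hN⟩ := exists_pow_range hφ
  obtain ⟨x, y, z', hx, _, _, hr, _⟩ := hT N
  obtain ⟨z, hz⟩ := hN x hx
  exact hr.1 a (by rw [Algebra.smul_def]; exact (congrArg (· * a) hz).symm.trans (h z))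

theorem vanish_ker (hM : LI (A := A) M) (hT : Triples J) {φ : M →ₗ[A] A ⧸ J} (hφ : Good J φ)
    (χ : M →ₗ[A] A ⧸ J) (z : M) (hz : φ z = 0) : χ z = 0 := by
  obtain ⟨N, hN⟩ := exists_pow_le (LinearMap.ker (LinearMap.toSpanSingleton A (A ⧸ J) (χ z))) fun p hp hle => by
    by_cases hJ : J ≤ p.asIdeal
    · obtain ⟨f, g, hg, hgen, -⟩ := hM p hp
      obtain ⟨w, b, hwb, hb⟩ := hφ p hp hJ
      obtain ⟨a, ha⟩ := hgen z
      obtain ⟨a', ha'⟩ := hgen w
      have h1 : a • φ f = 0 := by rw [← map_smul, ← ha, map_smul, hz, smul_zero]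
      refine (notMem_mul (notMem_mul hg hg) hb : g * g * b ∉ p.asIdeal) (hle ?_)
      rw [LinearMap.mem_ker, LinearMap.toSpanSingleton_apply]
      have h2 : g • Ideal.Quotient.mk J b = a' • φ f := by rw [← hwb, ← map_smul, ha', map_smul]
      have h3 : g • χ z = a • χ f := by rw [← map_smul, ha, map_smul]
      have key : (g * g * b) • χ z = (g • Ideal.Quotient.mk J b) * (g • χ z) := by
        simp only [Algebra.smul_def, map_mul, Ideal.Quotient.algebraMap_eq]; ring
      rw [key, h2, h3, smul_mul_assoc, mul_smul_comm, ← smul_mul_assoc, h1, zero_mul, smul_zero]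
    · obtain ⟨j, hj, hjp⟩ := SetLike.not_le_iff_exists.1 hJ
      refine hjp (hle ?_)
      rw [LinearMap.mem_ker, LinearMap.toSpanSingleton_apply, Algebra.smul_def, Ideal.Quotient.algebraMap_eq,
        Ideal.Quotient.eq_zero_iff_mem.2 hj, zero_mul]
  obtain ⟨x, y, z', hx, _, _, hr, _⟩ := hT N
  exact hr.1 _ (hN hx)

/-- Every functional is a multiple of a good one. -/
theorem exists_mult (hM : LI (A := A) M) (hT : Triples J) {φ : M →ₗ[A] A ⧸ J} (hφ : Good J φ)
    (χ : M →ₗ[A] A ⧸ J) : ∃ c : A ⧸ J, ∀ z, χ z = φ z * c := by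
  obtain ⟨N, hN⟩ := exists_pow_range hφ
  obtain ⟨x, y, z', hx, hy, _, hr, _⟩ := hT N
  obtain ⟨m₁, h₁⟩ := hN x hx
  obtain ⟨m₂, h₂⟩ := hN y hy
  have hsw : ∀ z, x • χ z = φ z * χ m₁ := fun z => by
    obtain ⟨w, hw⟩ := Ideal.Quotient.mk_surjective (φ z)
    have := vanish_ker hM hT hφ χ (x • z - w • m₁) (by
      rw [map_sub, map_smul, map_smul, h₁, ← hw, smul_mk, smul_mk, mul_comm, sub_self])
    rw [map_sub, map_smul, map_smul, sub_eq_zero] at this
    rw [this, ← hw, Algebra.smul_def]; rfl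
  obtain ⟨c, hc⟩ := hr.2 (χ m₁) (χ m₂) (by
    rw [hsw m₂, h₂, Algebra.smul_def]; rfl)
  refine ⟨c, fun z => ?_⟩
  have := hr.1 (χ z - φ z * c) (by rw [smul_sub, hsw z, hc, mul_smul_comm, sub_self])
  exact sub_eq_zero.1 this

/-- One lifting step. -/
theorem exists_lift (hM : LI (A := A) M) (hT : Triples J) {φ : M →ₗ[A] A ⧸ J} (hφ : Good J φ)
    {ι : Type u} {E Q : Type u} [AddCommGroup E] [Module A E] [AddCommGroup Q] [Module A Q]
    (i : (ι → A ⧸ J) →ₗ[A] E) (q : E →ₗ[A] Q) (hi : Function.Injective i) (hq : Function.Surjective q)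
    (hiq : Function.Exact i q) (hQ : ∀ x y : A, RegPair (A ⧸ J) x y → RegPair Q x y) (ψ : M →ₗ[A] Q) :
    ∃ ψ' : M →ₗ[A] E, q ∘ₗ ψ' = ψ := by
  let 𝔞 : Ideal A :=
    { carrier := {g | ∃ s : M →ₗ[A] E, q ∘ₗ s = g • ψ}
      add_mem' := fun {a b} ⟨s, hs⟩ ⟨t, ht⟩ => ⟨s + t, by rw [LinearMap.comp_add, hs, ht, add_smul]⟩
      zero_mem' := ⟨0, by simp⟩
      smul_mem' := fun c a ⟨s, hs⟩ => ⟨c • s, by rw [LinearMap.comp_smul, hs, smul_eq_mul, mul_smul]⟩ }
  obtain ⟨N, hN⟩ := exists_pow_le 𝔞 fun p hp hle => by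
    obtain ⟨f, g, hg, hgen, htor⟩ := hM p hp
    choose a ha using hgen
    obtain ⟨c, hc⟩ := hq (ψ f)
    have hzero : ∀ b : A, b • f = 0 → g • b • c = 0 := fun b hb => by rw [← mul_smul, htor b hb, zero_smul]
    let s : M →ₗ[A] E :=
      { toFun := fun z => g • a z • c
        map_add' := fun z w => by
          rw [← sub_eq_zero, ← smul_add, ← add_smul, ← smul_sub, ← sub_smul]
          exact hzero _ (by rw [sub_smul, add_smul, ← ha, ← ha, ← ha, smul_add, sub_self])
        map_smul' := fun r z => by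
          rw [← sub_eq_zero, RingHom.id_apply, smul_comm r g, ← smul_sub, ← mul_smul, ← sub_smul]
          exact hzero _ (by rw [sub_smul, mul_smul, ← ha, ← ha, smul_comm, sub_self]) }
    refine notMem_mul hg hg (hle ⟨s, LinearMap.ext fun z => ?_⟩)
    show q (g • a z • c) = (g * g) • ψ z
    rw [map_smul, map_smul, hc, ← map_smul, ← ha, map_smul, mul_smul]
  obtain ⟨x, y, z, hx, hy, hz, hr, hr3⟩ := hT N
  obtain ⟨sx, hsx⟩ := hN hx
  obtain ⟨sy, hsy⟩ := hN hy
  obtain ⟨sz, hsz⟩ := hN hz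
  have hker : ∀ (a b : A) (sa sb : M →ₗ[A] E), q ∘ₗ sa = a • ψ → q ∘ₗ sb = b • ψ →
      ∃ c : ι → A ⧸ J, ∀ w, b • sa w - a • sb w = i fun j => φ w * c j := by
    intro a b sa sb ha hb
    have h0 : ∀ w, q ((b • sa - a • sb) w) = 0 := fun w => by
      rw [LinearMap.sub_apply, LinearMap.smul_apply, LinearMap.smul_apply, map_sub, map_smul, map_smul,
        show q (sa w) = a • ψ w from LinearMap.congr_fun ha w, show q (sb w) = b • ψ w from LinearMap.congr_fun hb w,
        smul_comm, sub_self]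
    choose d hd using fun w => (hiq _).1 (h0 w)
    let δ : M →ₗ[A] (ι → A ⧸ J) :=
      { toFun := d
        map_add' := fun u v => hi (by rw [map_add, hd, hd, hd, map_add])
        map_smul' := fun r u => hi (by rw [RingHom.id_apply, map_smul, hd, hd, map_smul]) }
    choose c hc using fun j => exists_mult hM hT hφ ((LinearMap.proj j).comp δ)
    refine ⟨c, fun w => ?_⟩
    show (b • sa - a • sb) w = _
    rw [← hd w]
    exact congrArg i (funext fun j => hc j w)
  obtain ⟨c₁, hc₁⟩ := hker x y sx sy hsx hsy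
  obtain ⟨c₂, hc₂⟩ := hker y z sy sz hsy hsz
  obtain ⟨c₃, hc₃⟩ := hker z x sz sx hsz hsx
  have hsum : ∀ j, z • c₁ j + x • c₂ j + y • c₃ j = 0 := fun j => mult_eq_zero hT hφ _ fun w => by
    have : i (fun j => φ w * (z • c₁ j + x • c₂ j + y • c₃ j)) = 0 := by
      have e : (fun j => φ w * (z • c₁ j + x • c₂ j + y • c₃ j)) =
          z • (fun j => φ w * c₁ j) + x • (fun j => φ w * c₂ j) + y • (fun j => φ w * c₃ j) := by
        funext j; simp [mul_add, mul_smul_comm]
      rw [e, map_add, map_add, map_smul, map_smul, map_smul, ← hc₁, ← hc₂, ← hc₃]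
      module
    exact congrFun (hi (this.trans (map_zero i).symm)) j
  choose b b' hb using fun j => hr3 (c₁ j) (-c₂ j) (-c₃ j) (by
    rw [smul_neg, smul_neg]; linear_combination hsum j)
  let P : (ι → A ⧸ J) → (M →ₗ[A] E) := fun c => i.comp
    ({ toFun := fun w j => φ w * c j
       map_add' := fun u v => by funext j; simp [add_mul]
       map_smul' := fun r u => by funext j; simp [smul_mul_assoc] } : M →ₗ[A] ι → A ⧸ J)
  let sx' := sx - P b'
  let sy' := sy + P b
  have hd : ∀ w, y • sx' w = x • sy' w := fun w => by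
    rw [← sub_eq_zero]
    show y • (sx w - i fun j => φ w * b' j) - x • (sy w + i fun j => φ w * b j) = 0
    rw [smul_sub, smul_add, ← map_smul i, ← map_smul i]
    have e : (fun j => φ w * c₁ j) = (y • fun j => φ w * b' j) + x • fun j => φ w * b j := by
      funext j; simp [hb, mul_add, mul_smul_comm, add_comm]
    have := hc₁ w
    rw [e, map_add] at this
    rw [← sub_eq_zero] at this
    rw [← this]; abel
  have hE : RegPair E x y := RegPair.ext i q hi hq hiq (hr.pi ι) (hQ x y hr)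
  choose s hs using fun w => hE.2 (sx' w) (sy' w) (hd w)
  let ψ' : M →ₗ[A] E :=
    { toFun := s
      map_add' := fun u v => sub_eq_zero.1 (hE.1 _ (by rw [smul_sub, smul_add, ← hs, ← hs, ← hs, map_add, sub_self]))
      map_smul' := fun r u => sub_eq_zero.1 (hE.1 _ (by
        rw [RingHom.id_apply, smul_sub, smul_comm x r, ← hs, ← hs, map_smul, sub_self])) }
  refine ⟨ψ', LinearMap.ext fun w => sub_eq_zero.1 ((hQ x y hr).1 _ ?_)⟩
  show x • (q (s w) - ψ w) = 0
  rw [smul_sub, ← map_smul, ← hs]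
  show q (sx w - i _) - x • ψ w = 0
  rw [map_sub, hiq.apply_apply_eq_zero, sub_zero, show q (sx w) = x • ψ w from LinearMap.congr_fun hsx w, sub_self]

section Normal

variable (J) (hgr : ∀ n : ℕ, Module.Free (A ⧸ J) (↥(J ^ n) ⧸ (J • (⊤ : Submodule A ↥(J ^ n)))))

/-- The reduction maps. -/
def red (n : ℕ) : (A ⧸ J ^ (n + 1)) →ₗ[A] A ⧸ J ^ n := Submodule.factor (Ideal.pow_le_pow_right n.le_succ)

include hgr in
theorem exists_graded (n : ℕ) : ∃ (ι : Type u) (_ : Finite ι) (i : (ι → A ⧸ J) →ₗ[A] A ⧸ J ^ (n + 1)),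
    Function.Injective i ∧ Function.Exact i (red J n) := by
  by_cases hJ : J = ⊤
  · haveI hs : ∀ k, Subsingleton (A ⧸ J ^ k) := fun k => by
      rw [hJ, ← Ideal.one_eq_top, one_pow]; exact Ideal.Quotient.subsingleton_iff.2 Ideal.one_eq_top
    exact ⟨PEmpty.{u + 1}, inferInstance, 0, fun a b _ => Subsingleton.elim a b,
      fun v => ⟨fun _ => ⟨0, Subsingleton.elim _ _⟩, fun _ => Subsingleton.elim _ _⟩⟩
  haveI : Nontrivial (A ⧸ J) := Ideal.Quotient.nontrivial_iff.2 hJ
  haveI := hgr n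
  let G := ↥(J ^ n) ⧸ (J • (⊤ : Submodule A ↥(J ^ n)))
  haveI : Module.Finite A ↥(J ^ n) := Module.Finite.of_fg (IsNoetherian.noetherian _)
  haveI : Module.Finite (A ⧸ J) G := Module.Finite.of_restrictScalars_finite A _ _
  let b := Module.Free.chooseBasis (A ⧸ J) G
  haveI : Finite (Module.Free.ChooseBasisIndex (A ⧸ J) G) := Module.Finite.finite_basis b
  haveI : Fintype (Module.Free.ChooseBasisIndex (A ⧸ J) G) := Fintype.ofFinite _
  let e := (b.equivFun.restrictScalars A).symm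
  let m : ↥(J ^ n) →ₗ[A] A ⧸ J ^ (n + 1) := (Submodule.mkQ (J ^ (n + 1))).comp (Submodule.subtype _)
  have hm : J • (⊤ : Submodule A ↥(J ^ n)) = LinearMap.ker m := by
    ext v
    rw [Submodule.mem_smul_top_iff, LinearMap.mem_ker, smul_eq_mul, ← pow_succ']
    exact (Submodule.Quotient.mk_eq_zero _).symm
  let i : G →ₗ[A] A ⧸ J ^ (n + 1) := Submodule.liftQ _ m hm.le
  have hi : Function.Injective i := LinearMap.ker_eq_bot.1 (Submodule.ker_liftQ_eq_bot _ _ _ hm.ge)
  refine ⟨_, inferInstance, i.comp e.toLinearMap, hi.comp e.injective, fun v => ⟨fun hv => ?_, ?_⟩⟩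
  · obtain ⟨a, rfl⟩ := Submodule.Quotient.mk_surjective _ v
    have ha : a ∈ J ^ n := (Submodule.Quotient.mk_eq_zero _).1 hv
    exact ⟨e.symm (Submodule.Quotient.mk ⟨a, ha⟩), (congrArg i (e.apply_symm_apply _)).trans rfl⟩
  · rintro ⟨v, rfl⟩
    obtain ⟨w, hw⟩ := Submodule.Quotient.mk_surjective _ (e v)
    show red J n (i (e v)) = 0
    rw [← hw]
    exact (Submodule.Quotient.mk_eq_zero _).2 w.2

include hgr in
theorem regPair_pow {x y : A} (h : RegPair (A ⧸ J) x y) : ∀ n, RegPair (A ⧸ J ^ n) x y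
  | 0 => by
    haveI : Subsingleton (A ⧸ J ^ 0) := by rw [pow_zero, Ideal.one_eq_top]; exact Ideal.Quotient.subsingleton_iff.2 rfl
    exact ⟨fun _ _ => Subsingleton.elim _ _, fun _ _ _ => ⟨0, Subsingleton.elim _ _⟩⟩
  | n + 1 => by
    obtain ⟨ι, _, i, hi, hex⟩ := exists_graded J hgr n
    exact RegPair.ext i (red J n) hi (Submodule.factor_surjective (Ideal.pow_le_pow_right (Nat.le_succ _))) hex (h.pi ι) (regPair_pow h n)

include hgr in
theorem exists_lift_level (hM : LI (A := A) M) (hT : Triples J) {φ : M →ₗ[A] A ⧸ J} (hφ : Good J φ) :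
    ∀ n : ℕ, ∃ ψ : M →ₗ[A] A ⧸ J ^ (n + 1),
      ∀ z a, ψ z = Ideal.Quotient.mk (J ^ (n + 1)) a → φ z = Ideal.Quotient.mk J a
  | 0 => by
    refine ⟨(Submodule.quotEquivOfEq J (J ^ 1) (pow_one J).symm).toLinearMap ∘ₗ φ, fun z a h => ?_⟩
    apply (Submodule.quotEquivOfEq J (J ^ 1) (pow_one J).symm).injective
    exact h
  | n + 1 => by
    obtain ⟨ψ, hψ⟩ := exists_lift_level hM hT hφ n
    obtain ⟨ι, _, i, hi, hex⟩ := exists_graded J hgr (n + 1)
    obtain ⟨ψ', h'⟩ := exists_lift hM hT hφ i (red J (n + 1)) hi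
      (Submodule.factor_surjective (Ideal.pow_le_pow_right (Nat.le_succ _))) hex
      (fun x y h => regPair_pow J hgr h (n + 1)) ψ
    refine ⟨ψ', fun z a h => hψ z a ?_⟩
    rw [← h', LinearMap.comp_apply, h]
    rfl

include hgr in
/-- Lifting a good functional, by approximation (Artin–Rees). -/
theorem exists_lift_ring [Module.Finite A M] (hM : LI (A := A) M) (hT : Triples J) {φ : M →ₗ[A] A ⧸ J}
    (hφ : Good J φ) : ∃ ψ : M →ₗ[A] A, ∀ z, Ideal.Quotient.mk J (ψ z) = φ z := by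
  obtain ⟨r, π, hπ⟩ := Module.Finite.exists_fin' A M
  obtain ⟨s, t, ht⟩ := Submodule.fg_iff_exists_fin_generating_family.1
    (IsNoetherian.noetherian (LinearMap.ker π))
  let T : (Fin r → A) →ₗ[A] (Fin s → A) :=
    LinearMap.pi fun j => ∑ i, (t j i) • LinearMap.proj i
  have hT' : ∀ v j, T v j = ∑ i, t j i * v i := fun v j => by simp [T]
  obtain ⟨k, hk⟩ := Ideal.exists_pow_inf_eq_pow_smul J (LinearMap.range T)
  obtain ⟨ψ, hψ⟩ := exists_lift_level J hgr hM hT hφ k
  let b : Fin r → (Fin r → A) := fun i => Pi.single i 1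
  choose v hv using fun i => Ideal.Quotient.mk_surjective (ψ (π (b i)))
  have hsum : ∀ (w : Fin r → A), ψ (π w) = Ideal.Quotient.mk (J ^ (k + 1)) (∑ i, w i * v i) := fun w => by
    conv_lhs => rw [pi_eq_sum_univ' w]
    simp only [map_sum, map_smul]
    exact Finset.sum_congr rfl fun i _ => by rw [← hv i]; exact smul_mk _ _
  have hTv : T v ∈ J ^ (k + 1) • (⊤ : Submodule A (Fin s → A)) ⊓ LinearMap.range T := by
    refine ⟨?_, v, rfl⟩
    rw [pi_eq_sum_univ' (T v)]
    refine Submodule.sum_mem _ fun j _ => Submodule.smul_mem_smul ?_ Submodule.mem_top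
    rw [hT', ← Ideal.Quotient.eq_zero_iff_mem, ← hsum (t j)]
    have : t j ∈ LinearMap.ker π := ht ▸ Submodule.subset_span ⟨j, rfl⟩
    rw [LinearMap.mem_ker.1 this, map_zero]
  rw [hk (k + 1) k.le_succ, Nat.add_sub_cancel_left, pow_one] at hTv
  have hJT : T v ∈ (J • (⊤ : Submodule A (Fin r → A))).map T := by
    rw [Submodule.map_smul'', Submodule.map_top]
    exact Submodule.smul_mono le_rfl inf_le_right hTv
  obtain ⟨w, hw, hTw⟩ := hJT
  have hwJ : ∀ i, w i ∈ J :=
    Submodule.smul_induction_on (p := fun w => ∀ i, w i ∈ J) hw (fun a ha n _ i => Ideal.mul_mem_right _ _ ha)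
      fun x y hx hy i => add_mem (hx i) (hy i)
  let f : (Fin r → A) →ₗ[A] A := ∑ i, (v i - w i) • LinearMap.proj i
  have hf : ∀ x, f x = ∑ i, (v i - w i) * x i := fun x => by simp [f]
  have hker : LinearMap.ker π ≤ LinearMap.ker f := by
    rw [← ht, Submodule.span_le]
    rintro _ ⟨j, rfl⟩
    rw [SetLike.mem_coe, LinearMap.mem_ker, hf]
    have : T v j - T w j = 0 := by rw [hTw, sub_self]
    rw [← this, hT', hT', ← Finset.sum_sub_distrib]
    exact Finset.sum_congr rfl fun i _ => by ring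
  let ψ₀ : M →ₗ[A] A := (Submodule.liftQ _ f hker).comp (LinearMap.quotKerEquivOfSurjective π hπ).symm.toLinearMap
  refine ⟨ψ₀, fun z => ?_⟩
  obtain ⟨x, rfl⟩ := hπ z
  have hx : ψ₀ (π x) = f x := by
    show Submodule.liftQ _ f hker ((LinearMap.quotKerEquivOfSurjective π hπ).symm (π x)) = f x
    rw [show (LinearMap.quotKerEquivOfSurjective π hπ).symm (π x) = Submodule.Quotient.mk x from
      (LinearEquiv.symm_apply_eq _).2 rfl]
    rfl
  rw [hx, hψ (π x) _ (hsum x), hf, Ideal.Quotient.eq, ← Finset.sum_sub_distrib]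
  exact Ideal.sum_mem _ fun i _ => by
    rw [show (v i - w i) * x i - x i * v i = -(x i) * w i by ring]
    exact Ideal.mul_mem_left _ _ (hwJ i)

end Normal

/-- The dual of a module invertible off the closed point is one. -/
theorem LI.dual (hM : LI (A := A) M) : LI (A := A) (M →ₗ[A] A) := by
  intro p hp
  obtain ⟨f, g, hg, hgen, htor⟩ := hM p hp
  choose a ha using hgen
  have hzero : ∀ b : A, b • f = 0 → g * b = 0 := htor
  let fs : M →ₗ[A] A :=
    { toFun := fun z => g * a z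
      map_add' := fun z w => by
        rw [← sub_eq_zero, ← mul_add, ← mul_sub]
        exact hzero _ (by rw [sub_smul, add_smul, ← ha, ← ha, ← ha, smul_add, sub_self])
      map_smul' := fun r z => by
        rw [← sub_eq_zero, RingHom.id_apply, smul_eq_mul, mul_left_comm r g, ← mul_sub]
        exact hzero _ (by rw [sub_smul, mul_smul, ← ha, ← ha, smul_comm, sub_self]) }
  refine ⟨fs, g * g * g, notMem_mul (notMem_mul hg hg) hg, fun χ => ⟨g * χ f, LinearMap.ext fun z => ?_⟩, fun b hb => ?_⟩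
  · have h1 : g * χ z = a z * χ f := by rw [← smul_eq_mul, ← map_smul, ha, map_smul, smul_eq_mul]
    show (g * g * g) * χ z = (g * χ f) * (g * a z)
    linear_combination (g * g) * h1
  · have h1 : b * (g * a f) = 0 := LinearMap.congr_fun hb f
    have h2 : g * (g - a f) = 0 := hzero _ (by rw [sub_smul, ← ha, sub_self])
    linear_combination g * h1 + (g * b) * h2

/-- The functional on the dual attached to a good functional. -/
theorem exists_good_dual (hM : LI (A := A) M) (hT : Triples J) {φ : M →ₗ[A] A ⧸ J} (hφ : Good J φ) :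
    ∃ φ' : (M →ₗ[A] A) →ₗ[A] A ⧸ J, Good J φ' := by
  choose c hc using fun χ : M →ₗ[A] A => exists_mult hM hT hφ ((Algebra.linearMap A (A ⧸ J)) ∘ₗ χ)
  have huniq : ∀ a b : A ⧸ J, (∀ z, φ z * a = φ z * b) → a = b := fun a b h =>
    sub_eq_zero.1 (mult_eq_zero hT hφ _ fun z => by rw [mul_sub, h z, sub_self])
  let φ' : (M →ₗ[A] A) →ₗ[A] A ⧸ J :=
    { toFun := c
      map_add' := fun χ χ' => huniq _ _ fun z => by
        rw [← hc, mul_add, ← hc, ← hc]
        exact map_add (Algebra.linearMap A (A ⧸ J)) (χ z) (χ' z)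
      map_smul' := fun r χ => huniq _ _ fun z => by
        rw [RingHom.id_apply, ← hc, mul_smul_comm, ← hc]
        exact map_smul (Algebra.linearMap A (A ⧸ J)) r (χ z) }
  refine ⟨φ', fun p hp hJp => ?_⟩
  obtain ⟨f, g, hg, hgen, htor⟩ := hM p hp
  choose a ha using hgen
  let fs : M →ₗ[A] A :=
    { toFun := fun z => g * a z
      map_add' := fun z w => by
        rw [← sub_eq_zero, ← mul_add, ← mul_sub]
        exact htor _ (by rw [sub_smul, add_smul, ← ha, ← ha, ← ha, smul_add, sub_self])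
      map_smul' := fun r z => by
        rw [← sub_eq_zero, RingHom.id_apply, smul_eq_mul, mul_left_comm r g, ← mul_sub]
        exact htor _ (by rw [sub_smul, mul_smul, ← ha, ← ha, smul_comm, sub_self]) }
  obtain ⟨b, hb⟩ := Ideal.Quotient.mk_surjective (c fs)
  refine ⟨fs, b, hb.symm, fun hbp => ?_⟩
  obtain ⟨b', hb'⟩ := Ideal.Quotient.mk_surjective (φ f)
  have h1 : Ideal.Quotient.mk J (g * a f) = Ideal.Quotient.mk J (b' * b) := by
    rw [map_mul _ b', hb, hb']; exact hc fs f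
  have h2 : g * a f ∈ p.asIdeal := by
    have := add_mem (hJp (Ideal.Quotient.eq.1 h1)) (p.asIdeal.mul_mem_left b' hbp)
    rwa [sub_add_cancel] at this
  have h3 : g * (g - a f) = 0 := htor _ (by rw [sub_smul, ← ha, sub_self])
  refine notMem_mul hg hg ?_
  rw [show g * g = g * a f by linear_combination h3]
  exact h2

/-- **Main algebraic theorem**, from one good functional. -/
theorem exists_good_functional_of [Module.Finite A M] (hJ : J ≠ ⊤)
    (hgr : ∀ n : ℕ, Module.Free (A ⧸ J) (↥(J ^ n) ⧸ (J • (⊤ : Submodule A ↥(J ^ n)))))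
    (hT : Triples J) {φ : M →ₗ[A] A ⧸ J} (hφ : Good J φ) (hM : LI (A := A) M) :
    ∃ ψ : M →ₗ[A] A, ∀ p : PrimeSpectrum A, p.asIdeal ≠ maximalIdeal A → ∃ z, ψ z ∉ p.asIdeal := by
  have hle : J ≤ maximalIdeal A := le_maximalIdeal hJ
  haveI : Module.Finite A (M →ₗ[A] A) := inferInstance
  obtain ⟨φ', hφ'⟩ := exists_good_dual hM hT hφ
  obtain ⟨ψ, hψ⟩ := exists_lift_ring J hgr hM hT hφ
  obtain ⟨ψ', hψ'⟩ := exists_lift_ring J hgr hM.dual hT hφ'
  have hu : IsUnit (ψ' ψ) := by
    by_contra hnu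
    obtain ⟨N, hN⟩ := exists_pow_le (J ⊔ Ideal.span {ψ' ψ}) fun p hp hle' => by
      have hJp : J ≤ p.asIdeal := le_sup_left.trans hle'
      have hup : ψ' ψ ∈ p.asIdeal := hle' (Ideal.mem_sup_right (Ideal.mem_span_singleton_self _))
      obtain ⟨f, g, hg, hgen, htor⟩ := hM p hp
      obtain ⟨w, b, hwb, hb⟩ := hφ p hp hJp
      obtain ⟨χ, b', hχb, hb'⟩ := hφ' p hp hJp
      have hψw : ψ w ∉ p.asIdeal := fun h => hb (by
        have := (Ideal.Quotient.eq.1 ((hψ w).trans hwb))
        simpa using sub_mem h (hJp this))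
      have hψχ : ψ' χ ∉ p.asIdeal := fun h => hb' (by
        have := (Ideal.Quotient.eq.1 ((hψ' χ).trans hχb))
        simpa using sub_mem h (hJp this))
      -- `g χ(w) ψ = g ψ(w) χ` up to `g`
      have key : (g * g * ψ w) • χ = (g * g * χ w) • ψ := LinearMap.ext fun z => by
        obtain ⟨a, ha⟩ := hgen z
        obtain ⟨a', ha'⟩ := hgen w
        have e1 : g * χ z = a * χ f := by rw [← smul_eq_mul, ← map_smul, ha, map_smul, smul_eq_mul]
        have e2 : g * ψ z = a * ψ f := by rw [← smul_eq_mul, ← map_smul, ha, map_smul, smul_eq_mul]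
        have e3 : g * χ w = a' * χ f := by rw [← smul_eq_mul, ← map_smul, ha', map_smul, smul_eq_mul]
        have e4 : g * ψ w = a' * ψ f := by rw [← smul_eq_mul, ← map_smul, ha', map_smul, smul_eq_mul]
        show g * g * ψ w * χ z = g * g * χ w * ψ z
        linear_combination (g * ψ w) * e1 - (g * χ w) * e2 + (a * χ f) * e4 - (a * ψ f) * e3
      have := congrArg ψ' key
      rw [map_smul, map_smul, smul_eq_mul, smul_eq_mul] at this
      exact notMem_mul (notMem_mul (notMem_mul hg hg) hψw) hψχ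
        (this ▸ Ideal.mul_mem_left _ _ hup)
    obtain ⟨x, y, z', hx, hy, _, hr, _⟩ := hT N
    have hmem : ∀ r ∈ maximalIdeal A ^ N, ∃ b : A ⧸ J, Ideal.Quotient.mk J r = b * Ideal.Quotient.mk J (ψ' ψ) := by
      intro r hr'
      obtain ⟨j, hj, k, hk, rfl⟩ := Submodule.mem_sup.1 (hN hr')
      obtain ⟨d, rfl⟩ := Ideal.mem_span_singleton'.1 hk
      exact ⟨Ideal.Quotient.mk J d, by rw [map_add, Ideal.Quotient.eq_zero_iff_mem.2 hj, zero_add, map_mul]⟩
    obtain ⟨b, hb⟩ := hmem x hx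
    obtain ⟨c, hc⟩ := hmem y hy
    set a0 := Ideal.Quotient.mk J (ψ' ψ) with ha0
    have hs : ∀ (r : A) (v : A ⧸ J), r • v = Ideal.Quotient.mk J r * v := fun r v => Algebra.smul_def r v
    obtain ⟨b₁, hb₁⟩ := hr.2 b c (by rw [hs, hs, hb, hc]; ring)
    have h1 : (1 : A ⧸ J) - b₁ * a0 = 0 := hr.1 _ (by
      rw [hs] at hb₁; rw [hs]; linear_combination hb + a0 * hb₁)
    obtain ⟨r, hr'⟩ := Ideal.Quotient.mk_surjective b₁
    have hmm : 1 - r * ψ' ψ ∈ maximalIdeal A := hle (by
      rw [← Ideal.Quotient.eq_zero_iff_mem, map_sub, map_one, map_mul, hr', ← ha0, h1])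
    exact (maximalIdeal.isMaximal A).ne_top ((Ideal.eq_top_iff_one _).2
      (by simpa using add_mem hmm (Ideal.mul_mem_left _ r ((mem_maximalIdeal _).2 hnu))))
  refine ⟨ψ, fun p hp => ?_⟩
  obtain ⟨f, g, hg, hgen, htor⟩ := hM p hp
  choose a ha using hgen
  let fs : M →ₗ[A] A :=
    { toFun := fun z => g * a z
      map_add' := fun z w => by
        rw [← sub_eq_zero, ← mul_add, ← mul_sub]
        exact htor _ (by rw [sub_smul, add_smul, ← ha, ← ha, ← ha, smul_add, sub_self])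
      map_smul' := fun r z => by
        rw [← sub_eq_zero, RingHom.id_apply, smul_eq_mul, mul_left_comm r g, ← mul_sub]
        exact htor _ (by rw [sub_smul, mul_smul, ← ha, ← ha, smul_comm, sub_self]) }
  refine ⟨f, fun hψf => ?_⟩
  have key : (g * g) • ψ = ψ f • fs := LinearMap.ext fun z => by
    show g * g * ψ z = ψ f * (g * a z)
    have e2 : g * ψ z = a z * ψ f := by rw [← smul_eq_mul, ← map_smul, ha, map_smul, smul_eq_mul]
    linear_combination g * e2
  have := congrArg ψ' key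
  rw [map_smul, map_smul, smul_eq_mul, smul_eq_mul] at this
  exact (notMem_mul (notMem_mul hg hg) (fun h => p.2.ne_top (Ideal.eq_top_of_isUnit_mem _ h hu)))
    (this ▸ Ideal.mul_mem_right _ _ hψf)

/-- **Main algebraic theorem.** -/
theorem exists_good_functional [Module.Finite A M] (hJ : J ≠ ⊤)
    (hgr : ∀ n : ℕ, Module.Free (A ⧸ J) (↥(J ^ n) ⧸ (J • (⊤ : Submodule A ↥(J ^ n)))))
    (hT : Triples J)
    (h0 : ∀ (N : Type u) [AddCommGroup N] [Module A N], Module.Finite A N → LI (A := A) N →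
      ∃ φ : N →ₗ[A] A ⧸ J, Good J φ)
    (hM : LI (A := A) M) :
    ∃ ψ : M →ₗ[A] A, ∀ p : PrimeSpectrum A, p.asIdeal ≠ maximalIdeal A → ∃ z, ψ z ∉ p.asIdeal := by
  obtain ⟨φ, hφ⟩ := h0 M inferInstance hM
  exact exists_good_functional_of hJ hgr hT hφ hM

end Groth.Agent.ParaFLiftLib
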