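import Groth.Agent.ParaFLiftLib.Main
import Groth.Agent.TildePullback.Basic
import Groth.Agent.AmpleLib.Pullback

/-!
# Picard groups of punctured spectra along a normally flat ideal
-/

set_option autoImplicit false
set_option linter.style.haveILetI false
set_option backward.isDefEq.respectTransparency false

universe u

open IsLocalRing CategoryTheory CategoryTheory.Limits AlgebraicGeometry

noncomputable section

namespace Groth.Agent.ParaFLiftLib

variable {A : Type u} [CommRing A] [IsNoetherianRing A] [IsLocalRing A]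

/-- Restriction to the punctured spectrum of the quotient by a normally flat ideal. -/
theorem picPullbackInjective_quotient (J : Ideal A)
    (hgr : ∀ n : ℕ, Module.Free (A ⧸ J) (↥(J ^ n) ⧸ (J • (⊤ : Submodule A ↥(J ^ n))))) (hJ : J ≠ ⊤)
    [IsLocalRing (A ⧸ J)] (hd : (3 : ℕ∞) ≤ LocCoh.depth (A ⧸ J) (A ⧸ J)) :
    Formal2.PicPullbackInjective (Spec.map (CommRingCat.ofHom (Ideal.Quotient.mk J)) ∣_ FEt.puncturedSpec A) := by
  intro L hL hL'
  let R : CommRingCat.{u} := CommRingCat.of A
  let S : CommRingCat.{u} := CommRingCat.of (A ⧸ J)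
  haveI : IsNoetherianRing R := inferInstanceAs (IsNoetherianRing A)
  haveI : IsNoetherianRing S := inferInstanceAs (IsNoetherianRing (A ⧸ J))
  let φR : R ⟶ S := CommRingCat.ofHom (Ideal.Quotient.mk J)
  let g : Spec S ⟶ Spec R := Spec.map φR
  let U : (Spec R).Opens := FEt.puncturedSpec A
  let U₀ : (Spec S).Opens := g ⁻¹ᵁ U
  obtain ⟨M, hM, ⟨e⟩⟩ := TildeOpenLib.exists_tilde_finite U
    (TopologicalSpace.NoetherianSpace.isCompact _) L (CurveLib.isCoh_of_isInvertible hL)
  haveI := hM
  have hdata : ∀ p ∈ U, GenData M p := fun p hp => genData_of_iso M U (ParaFLib.isInvertible_of_iso e hL) p hp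
  obtain ⟨σ⟩ := hL'
  let M₀ : ModuleCat.{u} S := (ModuleCat.extendScalars.{u, u, u} φR.hom).obj M
  have e₀ : (tilde M₀).restrict U₀.ι ≅ Coh.structureModule (U₀ : Scheme.{u}) :=
    (Scheme.Modules.restrictFunctorIsoPullback U₀.ι).app (tilde M₀) ≪≫
      (Scheme.Modules.pullback U₀.ι).mapIso ((TildePullback.tildePullbackIso φR).app M).symm ≪≫
      (Scheme.Modules.pullbackComp U₀.ι g).app (tilde M) ≪≫
      (Scheme.Modules.pullbackCongr (morphismRestrict_ι g U).symm).app (tilde M) ≪≫
      ((Scheme.Modules.pullbackComp (g ∣_ U) U.ι).app (tilde M)).symm ≪≫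
      (Scheme.Modules.pullback (g ∣_ U)).mapIso (((Scheme.Modules.restrictFunctorIsoPullback U.ι).app (tilde M)).symm ≪≫ e.symm) ≪≫ σ
  haveI : Module.Finite S M₀ := by
    letI : Algebra R S := φR.hom.toAlgebra
    exact inferInstanceAs (Module.Finite S (TensorProduct R S M))
  have hdata₀ : ∀ q ∈ U₀, GenData M₀ q := fun q hq =>
    genData_of_iso M₀ U₀ (ParaFLib.isInvertible_of_iso e₀.symm ParaFLib.isInvertible_structureModule) q hq
  have hloc : IsLocalHom (Ideal.Quotient.mk J) := IsLocalHom.of_surjective _ Ideal.Quotient.mk_surjective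
  have hmem : ∀ q : PrimeSpectrum (A ⧸ J), q ∈ U₀ ↔ q.asIdeal.comap (Ideal.Quotient.mk J) ≠ maximalIdeal A :=
    fun q => mem_punctured_iff (PrimeSpectrum.comap (Ideal.Quotient.mk J) q)
  obtain ⟨φ₀, hφ₀⟩ := exists_functional_of_iso M₀ U₀
    (ParaFLib.isClosed'_of_depth (X := Spec S) U₀
      (fun x hx => ParaFLib.two_le_depth_stalk_closedPoint (A ⧸ J) (le_trans (by norm_num) hd) x (PrimeSpectrum.ext (by
        have h1 : (x : PrimeSpectrum (A ⧸ J)).asIdeal.comap (Ideal.Quotient.mk J) = maximalIdeal A :=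
          not_not.1 fun h => hx ((hmem x).2 h)
        rw [← Ideal.map_comap_of_surjective _ Ideal.Quotient.mk_surjective (x : PrimeSpectrum (A ⧸ J)).asIdeal, h1]
        exact (maximalIdeal_comap (Ideal.Quotient.mk J)) ▸
          (Ideal.map_comap_of_surjective _ Ideal.Quotient.mk_surjective _))))
      ParaFLib.isInvertible_structureModule) e₀ hdata₀
  letI : Algebra R S := φR.hom.toAlgebra
  let ι : M → M₀ := fun z => (show TensorProduct R S M from TensorProduct.tmul R (1 : S) z)
  let φ : M →ₗ[A] A ⧸ J :=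
    { toFun := fun z => φ₀ (ι z)
      map_add' := fun z w => by
        rw [show ι (z + w) = ι z + ι w from TensorProduct.tmul_add _ _ _, map_add]
      map_smul' := fun r z => by
        have e1 : ι (r • z) = (Ideal.Quotient.mk J r : S) • ι z := by
          show (show TensorProduct R S M from TensorProduct.tmul R (1 : S) (r • z)) =
            (show TensorProduct R S M from TensorProduct.tmul R ((Ideal.Quotient.mk J r : S) * 1) z)
          rw [TensorProduct.tmul_smul, TensorProduct.smul_tmul', Algebra.smul_def]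
          rfl
        rw [e1, map_smul]
        rfl }
  have hgood : Good J φ := by
    intro p hp hJp
    haveI : (p.asIdeal.map (Ideal.Quotient.mk J)).IsPrime :=
      Ideal.map_isPrime_of_surjective Ideal.Quotient.mk_surjective (by rw [Ideal.mk_ker]; exact hJp)
    let q : PrimeSpectrum (A ⧸ J) := ⟨p.asIdeal.map (Ideal.Quotient.mk J), inferInstance⟩
    have hc : q.asIdeal.comap (Ideal.Quotient.mk J) = p.asIdeal := by
      rw [Ideal.comap_map_of_surjective _ Ideal.Quotient.mk_surjective, ← RingHom.ker_eq_comap_bot, Ideal.mk_ker,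
        sup_eq_left.2 hJp]
    by_contra hcon
    push Not at hcon
    obtain ⟨w, hw⟩ := hφ₀ q ((hmem q).2 (hc ▸ hp))
    apply hw
    induction (show TensorProduct R S M from w) using TensorProduct.induction_on with
    | zero => rw [show φ₀ (0 : TensorProduct R S M) = 0 from map_zero φ₀]; exact q.asIdeal.zero_mem
    | tmul s z =>
      have h1 : φ₀ (show TensorProduct R S M from TensorProduct.tmul R s z) = s * φ z := by
        have e2 : (show M₀ from (show TensorProduct R S M from TensorProduct.tmul R s z)) = s • ι z := by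
          show (show TensorProduct R S M from TensorProduct.tmul R s z) =
            (show TensorProduct R S M from TensorProduct.tmul R (s * (1 : S)) z)
          rw [mul_one]
        rw [show φ₀ (show TensorProduct R S M from TensorProduct.tmul R s z) = φ₀ (s • ι z) from congrArg φ₀ e2, map_smul]
        rfl
      rw [h1]
      obtain ⟨a, ha⟩ := Ideal.Quotient.mk_surjective (φ z)
      exact q.asIdeal.mul_mem_left _ (ha ▸ Ideal.mem_map_of_mem _ (hcon z a ha.symm))
    | add a b ha hb =>
      rw [show φ₀ (show TensorProduct R S M from a + b) = φ₀ a + φ₀ b from map_add φ₀ a b]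
      exact add_mem ha hb
  obtain ⟨ψ, hψ⟩ := exists_good_functional_of (A := A) (M := M) hJ hgr (triples_of_depth J hJ hd) hgood
    (fun p hp => hdata p ((mem_punctured_iff p).2 hp))
  obtain ⟨e'⟩ := nonempty_iso_of_functional M U (ModuleCat.ofHom ψ) hdata
    fun p hp => hψ p ((mem_punctured_iff p).1 hp)
  exact ⟨e ≪≫ e'⟩

/-- A regular element generates a normally flat ideal. -/
theorem free_graded_span_singleton {t : A} (ht : IsSMulRegular A t) (n : ℕ) :
    Module.Free (A ⧸ Ideal.span {t}) (↥(Ideal.span {t} ^ n) ⧸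
      (Ideal.span {t} • (⊤ : Submodule A ↥(Ideal.span {t} ^ n)))) := by
  have htn : t ^ n ∈ Ideal.span {t} ^ n := Ideal.pow_mem_pow (Ideal.mem_span_singleton_self t) n
  let v : ↥(Ideal.span {t} ^ n) ⧸ (Ideal.span {t} • (⊤ : Submodule A ↥(Ideal.span {t} ^ n))) :=
    Submodule.Quotient.mk ⟨_, htn⟩
  refine Module.Free.of_equiv (LinearEquiv.ofBijective (LinearMap.toSpanSingleton (A ⧸ Ideal.span {t}) _ v) ⟨?_, ?_⟩)
  · rw [← LinearMap.ker_eq_bot, eq_bot_iff]
    intro c hc
    obtain ⟨c, rfl⟩ := Ideal.Quotient.mk_surjective c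
    have h : (c • (⟨_, htn⟩ : ↥(Ideal.span {t} ^ n))) ∈ Ideal.span {t} • (⊤ : Submodule A ↥(Ideal.span {t} ^ n)) :=
      (Submodule.Quotient.mk_eq_zero _).1 hc
    rw [Submodule.mem_smul_top_iff] at h
    change c * t ^ n ∈ Ideal.span {t} * Ideal.span {t} ^ n at h
    rw [← pow_succ', Ideal.span_singleton_pow, Ideal.mem_span_singleton'] at h
    obtain ⟨d, hd⟩ := h
    refine (Submodule.mem_bot _).2 (Ideal.Quotient.eq_zero_iff_mem.2 (Ideal.mem_span_singleton'.2 ⟨d, ?_⟩))
    refine (ht.pow n) ?_
    show t ^ n * (d * t) = t ^ n * c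
    rw [mul_comm (t ^ n) c, ← hd, pow_succ]
    ring
  · intro x
    obtain ⟨⟨a, ha⟩, rfl⟩ := Submodule.Quotient.mk_surjective _ x
    have ha' := ha
    rw [Ideal.span_singleton_pow, Ideal.mem_span_singleton'] at ha'
    obtain ⟨c, rfl⟩ := ha'
    exact ⟨Ideal.Quotient.mk _ c, congrArg Submodule.Quotient.mk (Subtype.ext rfl)⟩

end Groth.Agent.ParaFLiftLib
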